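import Mathlib
import Cfsg.Agent.Grp.Card
import Cfsg.Agent.Grp.MinNormal
import Cfsg.Agent.Solv.Schmidt
import Cfsg.Agent.Solv.Coprime3
import Cfsg.Agent.PLocal.Thompson
import Cfsg.Agent.S0065
import Cfsg.Agent.S0108

/-!
The theorems of Hughes–Thompson and Kegel: if every element outside a normal subgroup `M` of
index `p` has order `p`, then `M` is nilpotent.
-/

set_option autoImplicit false

namespace Cfsg.Agent.Solv.Hughes

open Subgroup Cfsg
open scoped IsMulCommutative

universe u

variable {G : Type u} [Group G]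

theorem mul_pow_eq_prod (V : Subgroup G) [V.Normal] [IsMulCommutative V] (v : V) (u : G) (n : ℕ) :
    ((v : G) * u) ^ n =
      ((∏ i ∈ Finset.range n, MulAut.conjNormal (u ^ i) v : V) : G) * u ^ n := by
  induction n with
  | zero => simp
  | succ n ih =>
    rw [pow_succ, ih, Finset.prod_range_succ, Subgroup.coe_mul, MulAut.conjNormal_apply, pow_succ]
    group

theorem pow_mul_mem {Q : Subgroup G} {y a : G} (hy : y ∈ normalizer (Q : Set G)) (ha : a ∈ Q)
    (i : ℕ) : (y * a) ^ i * (y ^ i)⁻¹ ∈ Q := by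
  induction i with
  | zero => simp
  | succ i ih =>
    have e : (y * a) ^ (i + 1) * (y ^ (i + 1))⁻¹ =
        (y * a * y⁻¹) * (y * ((y * a) ^ i * (y ^ i)⁻¹) * y⁻¹) := by
      rw [pow_succ' (y * a), pow_succ' y]; group
    rw [e]
    exact Q.mul_mem ((hy _).1 ha) ((hy _).1 ih)

/-- The norm identity. -/
theorem pow_card_mem_centralizer [Finite G] {p : ℕ} (hp : p.Prime) {M V Q : Subgroup G}
    [V.Normal] [IsMulCommutative V] (hM : ∀ g, g ∉ M → g ^ p = 1) (hV : V ≤ M) (hQ : Q ≤ M)
    {y : G} (hy : y ∈ normalizer (Q : Set G)) (hyM : y ∉ M) {v : G} (hv : v ∈ V) :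
    v ^ Nat.card Q ∈ centralizer (Q : Set G) := by
  classical
  have := Fintype.ofFinite Q
  let c : G →* MulAut V := MulAut.conjNormal
  let F : Subgroup V := (centralizer (Q : Set G)).subgroupOf V
  have hF : ∀ w : V, (∀ b : Q, c b w = w) → w ∈ F := by
    intro w hw b hb
    have := congrArg Subtype.val (hw ⟨b, hb⟩)
    simp only [c, MulAut.conjNormal_apply] at this
    exact mul_inv_eq_iff_eq_mul.1 this
  have hN : ∀ w : V, ∏ a : Q, c a w ∈ F := by
    intro w
    refine hF _ fun b => ?_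
    rw [map_prod]
    exact Fintype.prod_equiv (Equiv.mulLeft b) _ _ fun a => by simp
  have hout : ∀ a : Q, y * a ∉ M := fun a h => hyM (by simpa using M.mul_mem h (M.inv_mem (hQ a.2)))
  have h1 : ∀ a : Q, ∏ i ∈ Finset.range p, c ((y * a) ^ i) ⟨v, hv⟩ = 1 := by
    intro a
    have h2 := mul_pow_eq_prod V ⟨v, hv⟩ (y * a) p
    rw [hM _ (hout a), hM _ (fun h => hout a (by simpa using M.mul_mem (M.inv_mem (hV hv)) h)),
      mul_one] at h2
    exact Subtype.ext h2.symm
  have h2 : ∀ i, 0 < i → i < p → ∏ a : Q, c ((y * a) ^ i) ⟨v, hv⟩ ∈ F := by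
    intro i hi hip
    let φ : Q → Q := fun a => ⟨_, pow_mul_mem hy a.2 i⟩
    have hφ : Function.Injective φ := by
      intro a b hab
      have h3 : (y * a) ^ i = (y * b) ^ i := mul_right_cancel (congrArg Subtype.val hab)
      obtain ⟨j, -, hj⟩ := Nat.exists_mul_mod_eq_one_of_coprime
        ((Nat.coprime_of_lt_prime hi.ne' hip hp).symm) hp.one_lt
      have h4 : ∀ g : G, g ^ p = 1 → (g ^ i) ^ j = g := fun g hg => by
        rw [← pow_mul, pow_eq_pow_mod _ hg, hj, pow_one]
      rw [← Subtype.coe_inj, ← mul_right_inj y, ← h4 _ (hM _ (hout a)), h3, h4 _ (hM _ (hout b))]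
    have h3 : ∏ a : Q, c ((y * a) ^ i) ⟨v, hv⟩ = ∏ a : Q, c a (c (y ^ i) ⟨v, hv⟩) := by
      refine Fintype.prod_bijective φ (Finite.injective_iff_bijective.1 hφ) _ _ fun a => ?_
      rw [← MulAut.mul_apply, ← map_mul]
      simp [φ]
    rw [h3]
    exact hN _
  have h3 : ∏ i ∈ Finset.range p, ∏ a : Q, c ((y * a) ^ i) ⟨v, hv⟩ = 1 := by
    rw [Finset.prod_comm]
    exact Finset.prod_eq_one fun a _ => h1 a
  obtain ⟨k, rfl⟩ : ∃ k, p = k + 1 := ⟨p - 1, (Nat.sub_add_cancel hp.one_le).symm⟩
  rw [Finset.prod_range_succ'] at h3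
  simp only [pow_zero, map_one, MulAut.one_apply, Finset.prod_const, Finset.card_univ,
    ← Nat.card_eq_fintype_card] at h3
  have h4 : (⟨v, hv⟩ : V) ^ Nat.card Q ∈ F := by
    rw [eq_inv_of_mul_eq_one_right h3]
    exact F.inv_mem (F.prod_mem fun i hi => h2 _ (Nat.succ_pos i)
      (Nat.succ_lt_succ (Finset.mem_range.1 hi)))
  exact h4

theorem exists_normalizer_not_mem [Finite G] {M : Subgroup G} [M.Normal] (hM : M ≠ ⊤) {q : ℕ}
    [Fact q.Prime] (Q : Sylow q M) :
    ∃ y ∈ normalizer (((Q : Subgroup M).map M.subtype : Subgroup G) : Set G), y ∉ M := by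
  by_contra h
  push Not at h
  have h1 := Sylow.normalizer_sup_eq_top Q
  rw [sup_of_le_right h] at h1
  exact hM h1

/-- **Hughes–Thompson, Kegel**. -/
theorem isNilpotent_of_pow_eq_one {p : ℕ} (hp : p.Prime) (G : Type u) [Group G] [Finite G] :
    ∀ M : Subgroup G, M.Normal → M.index = p → (∀ g, g ∉ M → g ^ p = 1) →
      Group.IsNilpotent M := by
  refine Grp.card_induction (P := fun G _ _ => ∀ M : Subgroup G, M.Normal → M.index = p →
    (∀ g, g ∉ M → g ^ p = 1) → Group.IsNilpotent M) ?_ G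
  intro G _ _ ih M hMn hi hM
  have hMt : M ≠ ⊤ := fun e => hp.one_lt.ne' (by rw [← hi, e, Subgroup.index_top])
  have hsub : ∀ K : Subgroup G, K ≠ ⊤ → ¬ K ≤ M → Group.IsNilpotent (M.subgroupOf K) := by
    intro K hK hKM
    refine ih K (Grp.card_lt_of_ne_top hK) _ inferInstance ?_ fun g hg => Subtype.ext (hM g hg)
    have h1 : M.relIndex K ∣ p := hi ▸ Subgroup.relIndex_dvd_index_of_normal M K
    exact ((Nat.dvd_prime hp).1 h1).resolve_left fun e => hKM (Subgroup.relIndex_eq_one.1 e)
  have hsub' : ∀ K L : Subgroup G, K ≠ ⊤ → ¬ K ≤ M → L ≤ K → L ≤ M → Group.IsNilpotent L := by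
    intro K L hK hKM h1 h2
    have := hsub K hK hKM
    have h3 : L.subgroupOf K ≤ M.subgroupOf K := Subgroup.subgroupOf_mono _ h2
    have h4 : Group.IsNilpotent (L.subgroupOf K) :=
      Group.nilpotent_of_mulEquiv (Subgroup.subgroupOfEquivOfLe h3)
    exact Group.nilpotent_of_mulEquiv (Subgroup.subgroupOfEquivOfLe h1)
  have hquot : ∀ (N : Subgroup G) [N.Normal], N ≠ ⊥ → N ≤ M →
      Group.IsNilpotent (M.map (QuotientGroup.mk' N)) := by
    intro N _ hN hNM
    refine ih (G ⧸ N) (Grp.card_quotient_lt _ hN) _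
      (hMn.map _ (QuotientGroup.mk'_surjective N)) ?_ fun g hg => ?_
    · rw [Subgroup.index_map_eq _ (QuotientGroup.mk'_surjective N) (by
        rwa [QuotientGroup.ker_mk']), hi]
    · induction g using QuotientGroup.induction_on with | H g => ?_
      rw [← QuotientGroup.mk_pow, hM g fun h => hg ⟨g, h, rfl⟩, QuotientGroup.mk_one]
  by_contra hG
  have hpg : ∀ q : ℕ, q.Prime → ¬ IsPGroup q M := fun q hq h => by
    have : Fact q.Prime := ⟨hq⟩
    exact hG h.isNilpotent
  have hM1 : M ≠ ⊥ := by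
    rintro rfl
    exact hG inferInstance
  have hsolv : Group.IsSolvable M := by
    by_cases hN : ∃ N : Subgroup G, N.Normal ∧ N ≠ ⊥ ∧ N < M
    · obtain ⟨N, hNn, hN1, hNM⟩ := hN
      obtain ⟨x, hx⟩ : ∃ x, x ∉ M := by
        by_contra h
        push Not at h
        exact hMt (eq_top_iff.2 fun x _ => h x)
      have h1 : Group.IsNilpotent N := by
        refine hsub' (zpowers x ⊔ N) N (fun e => ?_)
          (fun h => hx (h (Subgroup.mem_sup_left (mem_zpowers x)))) le_sup_right hNM.le
        have h2 := Nat.le_of_dvd (Nat.mul_pos Nat.card_pos Nat.card_pos)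
          (Grp.card_sup_dvd (zpowers x) N)
        rw [e, Subgroup.card_top, ← M.index_mul_card, hi, Nat.card_zpowers] at h2
        have h3 : orderOf x ≤ p := orderOf_le_of_pow_eq_one hp.pos (hM x hx)
        have h4 := Grp.card_lt_of_lt hNM
        have h5 : orderOf x * Nat.card N < p * Nat.card M :=
          Nat.mul_lt_mul_of_le_of_lt h3 h4 hp.pos
        omega
      have h2 := hquot N hN1 hNM.le
      refine Group.isSolvable_of_ker_le_range (Subgroup.inclusion hNM.le)
        ((QuotientGroup.mk' N).subgroupMap M) fun y hy => ?_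
      have h3 : (y : G) ∈ N := (QuotientGroup.eq_one_iff _).1 (congrArg Subtype.val hy)
      exact ⟨⟨y, h3⟩, rfl⟩
    exfalso
    push Not at hN
    obtain ⟨q, hq, hqd, hq2⟩ : ∃ q : ℕ, q.Prime ∧ q ∣ Nat.card M ∧ q ≠ 2 := by
      by_contra h
      push Not at h
      exact hpg 2 Nat.prime_two (IsPGroup.of_card
        (Nat.eq_prime_pow_of_unique_prime_dvd Nat.card_pos.ne' (fun hq hd => h _ hq hd)))
    have : Fact q.Prime := ⟨hq⟩
    obtain ⟨Q⟩ : Nonempty (Sylow q M) := inferInstance
    obtain ⟨y, hy, hyM⟩ := exists_normalizer_not_mem hMt Q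
    have hQ1 : (Q : Subgroup M) ≠ ⊥ := Q.ne_bot_of_dvd_card hqd
    have hnorm : ∀ B : Subgroup M, B ≤ Q → B ≠ ⊥ →
        y ∈ normalizer ((B.map M.subtype : Subgroup G) : Set G) →
        HasNormalPComplement q (normalizer (B : Set M)) := by
      intro B hB hB1 hyB
      have h1 : normalizer ((B.map M.subtype : Subgroup G) : Set G) ≠ ⊤ := by
        intro e
        refine hN _ (Subgroup.normalizer_eq_top_iff.1 e) ?_ (lt_of_le_of_ne
          (Subgroup.map_subtype_le _) fun e' => hpg q hq ?_)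
        · rwa [Ne, Subgroup.map_eq_bot_iff_of_injective _ M.subtype_injective]
        · have h2 : IsPGroup q (B.map M.subtype) := (Q.2.to_le hB).map _
          rwa [e'] at h2
      have h2 := hsub' _ ((normalizer (B : Set M)).map M.subtype) h1 (fun h => hyM (h hyB))
        (Subgroup.le_normalizer_map _) (Subgroup.map_subtype_le _)
      exact hasNormalPComplement_of_isNilpotent (Group.nilpotent_of_mulEquiv
        ((normalizer (B : Set M)).equivMapOfInjective _ M.subtype_injective).symm) q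
    have hc : HasNormalPComplement q M := by
      refine (S0108.result hq2 Q).2 ⟨hnorm _ (PLocal.thompsonSubgroupOf_le _)
        (PLocal.thompsonSubgroupOf_ne_bot_of_isPGroup Q.2 hQ1) ?_, ?_⟩
      · rw [PLocal.map_thompsonSubgroupOf _ M.subtype_injective]
        exact PLocal.normalizer_le_normalizer_thompsonSubgroupOf _ hy
      · refine Transfer.HasNormalPComplement.of_le (hnorm
          ((Q : Subgroup M) ⊓ centralizer ((Q : Subgroup M) : Set M)) inf_le_left ?_ ?_)
          (Subgroup.centralizer_le_normalizer _)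
        · have : Nontrivial Q := (Subgroup.nontrivial_iff_ne_bot (Q : Subgroup M)).2 hQ1
          obtain ⟨⟨z, hz⟩, hz1⟩ := Subgroup.ne_bot_iff_exists_ne_one.1 Q.2.bot_lt_center.ne'
          refine Subgroup.ne_bot_iff_exists_ne_one.2 ⟨⟨z, z.2, fun w hw => ?_⟩, fun h => hz1 ?_⟩
          · exact congrArg Subtype.val (Subgroup.mem_center_iff.1 hz ⟨w, hw⟩)
          · exact Subtype.ext (Subtype.ext (Subtype.ext_iff.1 h :))
        · rw [PLocal.map_inf_centralizer_of_injective M.subtype_injective]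
          exact le_normalizer_inf le_rfl (le_normalizer_centralizer le_rfl) hy
    rw [Transfer.hasNormalPComplement_iff_coprime] at hc
    by_cases h1 : pResidual q M = ⊥
    · exact hpg q hq (Transfer.pResidual_eq_bot_iff.1 h1)
    refine hN ((pResidual q M).map M.subtype) inferInstance ?_ (lt_of_le_of_ne
      (Subgroup.map_subtype_le _) fun e => ?_)
    · rwa [Ne, Subgroup.map_eq_bot_iff_of_injective _ M.subtype_injective]
    · rw [← Subgroup.card_subtype, e] at hc
      exact hq.one_lt.ne' (Nat.eq_one_of_dvd_coprimes hc hqd dvd_rfl)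
  obtain ⟨r, V, hr, hVn, hV1, hVM, hVc, -, hVr, -⟩ := Grp.exists_minNormal_elementaryAbelian_le M hM1
  have : Fact r.Prime := ⟨hr⟩
  obtain ⟨R⟩ : Nonempty (Sylow r M) := inferInstance
  have hVR : V.subgroupOf M ≤ R := (hVr.comap_subtype (K := M)).le_sylow_of_normal R
  have := R.2.isNilpotent
  have h1 := S0065.result ((V.subgroupOf M).subgroupOf R) (by
    rwa [Ne, Subgroup.subgroupOf_eq_bot, disjoint_iff, inf_eq_left.2 hVR,
      Subgroup.subgroupOf_eq_bot, disjoint_iff, inf_eq_left.2 hVM])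
  obtain ⟨⟨z, hzV, hz⟩, hz1⟩ := Subgroup.ne_bot_iff_exists_ne_one.1 h1
  have htop : centralizer {(z : M)} = ⊤ := by
    refine eq_top_of_forall_sylow_le _ fun q _ => ?_
    by_cases hqr : q = r
    · subst hqr
      refine ⟨R, fun x hx => Subgroup.mem_centralizer_singleton_iff.2 ?_⟩
      exact congrArg Subtype.val (Subgroup.mem_center_iff.1 hz ⟨x, hx⟩)
    · obtain ⟨Q⟩ : Nonempty (Sylow q M) := inferInstance
      obtain ⟨y, hy, hyM⟩ := exists_normalizer_not_mem hMt Q
      have h2 := pow_card_mem_centralizer hp hM hVM (Subgroup.map_subtype_le _) hy hyM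
        (v := ((z : M) : G)) hzV
      have h3 : (orderOf ((z : M) : G)).Coprime
          (Nat.card ((Q : Subgroup M).map M.subtype)) :=
        (IsPGroup.coprime_card_of_ne r q (Ne.symm hqr) _ _ hVr (Q.2.map _)).coprime_dvd_left
          (V.orderOf_dvd_natCard hzV)
      have h4 : ((z : M) : G) ∈ centralizer (((Q : Subgroup M).map M.subtype : Subgroup G) : Set G) := by
        obtain ⟨m, hm⟩ := exists_pow_eq_self_of_coprime h3.symm
        rw [← hm]
        exact Subgroup.pow_mem _ h2 m
      exact ⟨Q, fun x hx => Subgroup.mem_centralizer_singleton_iff.2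
        (Subtype.ext (h4 x ⟨x, hx, rfl⟩))⟩
  have hZ : (center M).map M.subtype ≠ ⊥ := by
    rw [Ne, Subgroup.map_eq_bot_iff_of_injective _ M.subtype_injective]
    refine Subgroup.ne_bot_iff_exists_ne_one.2 ⟨⟨z, Subgroup.mem_center_iff.2 fun g => ?_⟩,
      fun h => hz1 (Subtype.ext (Subtype.ext (Subtype.ext_iff.1 h :)))⟩
    exact Subgroup.mem_centralizer_singleton_iff.1 (htop ▸ Subgroup.mem_top g)
  have h2 := hquot _ hZ (Subgroup.map_subtype_le _)
  refine hG (Subgroup.isNilpotent_of_ker_le_center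
    ((QuotientGroup.mk' ((center M).map M.subtype)).subgroupMap M) fun y hy => ?_)
  have h3 : (y : G) ∈ (center M).map M.subtype :=
    (QuotientGroup.eq_one_iff _).1 (congrArg Subtype.val hy)
  exact (Subgroup.mem_map_iff_mem M.subtype_injective).1 h3

end Cfsg.Agent.Solv.Hughes
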