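import Mathlib
import Cfsg.Agent.Solv.FrattiniNormal
import Cfsg.Agent.Grp.Cores

/-!
Groups with a core-free maximal subgroup (primitive groups).
-/

set_option autoImplicit false

namespace Cfsg.Agent.Solv

open Subgroup

variable {G : Type*} [Group G]

theorem eq_bot_of_normal_of_le_of_normalCore_eq_bot {U N : Subgroup G} [N.Normal]
    (hcore : U.normalCore = ⊥) (h : N ≤ U) : N = ⊥ :=
  eq_bot_iff.2 (hcore ▸ normal_le_normalCore.2 h)

theorem sup_eq_top_of_coreFree {U : Subgroup G} (hU : IsCoatom U) (hcore : U.normalCore = ⊥)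
    (N : Subgroup G) [N.Normal] (hN : N ≠ ⊥) : N ⊔ U = ⊤ :=
  hU.2 _ (right_lt_sup.2 fun h => hN (eq_bot_of_normal_of_le_of_normalCore_eq_bot hcore h))

/-- A subgroup normalized by `U` and centralized by `N`, where `N U = G`, is normal. -/
theorem normal_of_sup_eq_top_of_le_normalizer {U N K : Subgroup G} (h : N ⊔ U = ⊤)
    (hN : N ≤ normalizer (K : Set G)) (hU : U ≤ normalizer (K : Set G)) : K.Normal := by
  rw [← normalizer_eq_top_iff, eq_top_iff, ← h]
  exact sup_le hN hU

theorem le_normalizer_of_le_centralizer {N K : Subgroup G} (h : K ≤ centralizer (N : Set G)) :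
    N ≤ normalizer (K : Set G) :=
  (le_centralizer_iff.1 h).trans (centralizer_le_normalizer _)

theorem centralizer_inf_eq_bot_of_coreFree {U : Subgroup G} (hU : IsCoatom U)
    (hcore : U.normalCore = ⊥) (N : Subgroup G) [N.Normal] (hN : N ≠ ⊥) :
    centralizer (N : Set G) ⊓ U = ⊥ := by
  have : (centralizer (N : Set G) ⊓ U).Normal :=
    normal_of_sup_eq_top_of_le_normalizer (sup_eq_top_of_coreFree hU hcore N hN)
      (le_normalizer_of_le_centralizer inf_le_left)
      ((le_inf le_normalizer_of_normal le_normalizer).trans inf_normalizer_le_normalizer_inf)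
  exact eq_bot_of_normal_of_le_of_normalCore_eq_bot hcore inf_le_right

/-- If `C` meets the maximal subgroup `U` trivially, the only `U`-invariant subgroups of `C` are
`1` and `C`. -/
theorem eq_bot_or_eq_of_isCoatom_of_inf_eq_bot {U C K : Subgroup G} (hU : IsCoatom U)
    (hC : C ⊓ U = ⊥) (hK : K ≤ C) (hUK : U ≤ normalizer (K : Set G)) : K = ⊥ ∨ K = C := by
  by_cases hKU : K ≤ U
  · exact Or.inl (eq_bot_iff.2 (hC ▸ le_inf hK hKU))
  · right
    have htop : K ⊔ U = ⊤ := hU.2 _ (right_lt_sup.2 hKU)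
    have := inf_sup_eq_of_le_normalizer hK hUK
    rw [htop, inf_top_eq, hC, sup_bot_eq] at this
    exact this.symm

theorem centralizer_minNormal_of_coreFree {U : Subgroup G} (hU : IsCoatom U)
    (hcore : U.normalCore = ⊥) (N : Subgroup G) [N.Normal] (hN : N ≠ ⊥) (K : Subgroup G)
    (hK : K.Normal) (hKC : K ≤ centralizer (N : Set G)) : K = ⊥ ∨ K = centralizer (N : Set G) :=
  eq_bot_or_eq_of_isCoatom_of_inf_eq_bot hU (centralizer_inf_eq_bot_of_coreFree hU hcore N hN) hKC
    le_normalizer_of_normal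

/-- A nontrivial abelian normal subgroup of a primitive group is self-centralizing. -/
theorem centralizer_eq_of_coreFree {U : Subgroup G} (hU : IsCoatom U)
    (hcore : U.normalCore = ⊥) (N : Subgroup G) [N.Normal] (hN : N ≠ ⊥) [IsMulCommutative N] :
    centralizer (N : Set G) = N :=
  ((centralizer_minNormal_of_coreFree hU hcore N hN N inferInstance (le_centralizer N)).resolve_left
    hN).symm

theorem inf_eq_bot_of_coreFree {U : Subgroup G} (hU : IsCoatom U)
    (hcore : U.normalCore = ⊥) (N : Subgroup G) [N.Normal] (hN : N ≠ ⊥) [IsMulCommutative N] :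
    N ⊓ U = ⊥ := by
  have := centralizer_inf_eq_bot_of_coreFree hU hcore N hN
  rwa [centralizer_eq_of_coreFree hU hcore N hN] at this

theorem isComplement'_of_coreFree [Finite G] {U : Subgroup G} (hU : IsCoatom U)
    (hcore : U.normalCore = ⊥) (N : Subgroup G) [N.Normal] (hN : N ≠ ⊥) [IsMulCommutative N] :
    N.IsComplement' U :=
  Grp.isComplement'_of_sup_eq_top (inf_eq_bot_of_coreFree hU hcore N hN)
    (sup_eq_top_of_coreFree hU hcore N hN)

/-- The normalizer of a nontrivial subgroup normal in a core-free maximal subgroup `U` is `U`. -/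
theorem normalizer_eq_of_coreFree {U Q : Subgroup G} (hU : IsCoatom U)
    (hcore : U.normalCore = ⊥) (hQ : Q ≠ ⊥) (hQU : Q ≤ U) (hn : U ≤ normalizer (Q : Set G)) :
    normalizer (Q : Set G) = U := by
  rcases hn.eq_or_lt with h | h
  · exact h.symm
  · have := normalizer_eq_top_iff.1 (hU.2 _ h)
    exact absurd (eq_bot_of_normal_of_le_of_normalCore_eq_bot hcore hQU) hQ

/-- Two complements of `N` in a common supplement are isomorphic. -/
theorem nonempty_mulEquiv_of_sup_eq {X Y N : Subgroup G} [N.Normal] (hX : X ⊓ N = ⊥)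
    (hY : Y ⊓ N = ⊥) (h : X ⊔ N = Y ⊔ N) : Nonempty (X ≃* Y) := by
  have key : ∀ X : Subgroup G, X ⊓ N = ⊥ →
      Nonempty (X ≃* (X ⊔ N).map (QuotientGroup.mk' N)) := by
    intro X hX
    have hinj : Function.Injective ((QuotientGroup.mk' N).comp X.subtype) := by
      rw [injective_iff_map_eq_one]
      intro x hx
      have : (x : G) ∈ X ⊓ N := ⟨x.2, (QuotientGroup.eq_one_iff _).1 hx⟩
      rw [hX] at this
      exact Subtype.ext this
    refine ⟨(MonoidHom.ofInjective hinj).trans (MulEquiv.subgroupCongr ?_)⟩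
    rw [MonoidHom.range_comp, range_subtype, Subgroup.map_sup, QuotientGroup.map_mk'_self,
      sup_bot_eq]
  obtain ⟨e⟩ := key X hX
  obtain ⟨f⟩ := key Y hY
  exact ⟨(e.trans (MulEquiv.subgroupCongr (by rw [h]))).trans f.symm⟩

/-- The point stabilizer of a faithful transitive action is core-free. -/
theorem normalCore_stabilizer_eq_bot {Ω : Type*} [MulAction G Ω] [FaithfulSMul G Ω]
    [MulAction.IsPretransitive G Ω] (ω : Ω) : (MulAction.stabilizer G ω).normalCore = ⊥ := by
  rw [eq_bot_iff]
  intro g hg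
  rw [mem_bot]
  apply eq_of_smul_eq_smul (α := Ω)
  intro x
  obtain ⟨b, rfl⟩ := MulAction.exists_smul_eq G ω x
  have := hg b⁻¹
  rw [MulAction.mem_stabilizer_iff, inv_inv, mul_smul, mul_smul, inv_smul_eq_iff] at this
  rw [this, one_smul]

theorem nontrivial_of_faithful {Ω : Type*} [MulAction G Ω] [FaithfulSMul G Ω] {M : Subgroup G}
    (hM : M ≠ ⊥) : Nontrivial Ω := by
  by_contra h
  rw [not_nontrivial_iff_subsingleton] at h
  apply hM
  rw [eq_bot_iff]
  intro g _
  rw [mem_bot]
  exact eq_of_smul_eq_smul (α := Ω) fun x => Subsingleton.elim _ _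

end Cfsg.Agent.Solv
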