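import Mathlib
import Cfsg.Agent.Solv.Hall
import Cfsg.Agent.Solv.CoreFree
import Cfsg.Agent.Solv.Misc1
import Cfsg.Agent.Grp.Subnormal
import Cfsg.Agent.Grp.Fitting
import Cfsg.Agent.PLocal.SylowIn

/-!
Factorized groups `K = A B`: conjugates of the factors, Sylow and Hall subgroups, the normalizer of
`⟨A₀, B₀⟩`, and Kegel's lemmas on subgroups permuting with all conjugates of another.
-/

set_option autoImplicit false

namespace Cfsg.Agent.Solv

open Subgroup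
open scoped Pointwise

variable {G : Type*} [Group G]

/-- `IsProd K A B`: the subgroup `K` is the product set `A B`. -/
def IsProd (K A B : Subgroup G) : Prop :=
  A ≤ K ∧ B ≤ K ∧ ∀ g ∈ K, ∃ a ∈ A, ∃ b ∈ B, g = a * b

theorem isProd_top {A B : Subgroup G} (h : ∀ g : G, ∃ a ∈ A, ∃ b ∈ B, g = a * b) :
    IsProd ⊤ A B := ⟨le_top, le_top, fun g _ => h g⟩

theorem isProd_iff_coe {K A B : Subgroup G} :
    IsProd K A B ↔ (K : Set G) = (A : Set G) * (B : Set G) := by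
  constructor
  · rintro ⟨h1, h2, h3⟩
    ext g
    constructor
    · intro hg
      obtain ⟨a, ha, b, hb, rfl⟩ := h3 g hg
      exact ⟨a, ha, b, hb, rfl⟩
    · rintro ⟨a, ha, b, hb, rfl⟩
      exact K.mul_mem (h1 ha) (h2 hb)
  · intro h
    refine ⟨fun a ha => ?_, fun b hb => ?_, fun g hg => ?_⟩
    · rw [← SetLike.mem_coe, h]; exact ⟨a, ha, 1, B.one_mem, mul_one a⟩
    · rw [← SetLike.mem_coe, h]; exact ⟨1, A.one_mem, b, hb, one_mul b⟩
    · rw [← SetLike.mem_coe, h] at hg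
      obtain ⟨a, ha, b, hb, rfl⟩ := hg
      exact ⟨a, ha, b, hb, rfl⟩

namespace IsProd

variable {K A B : Subgroup G}

theorem symm (h : IsProd K A B) : IsProd K B A := by
  refine ⟨h.2.1, h.1, fun g hg => ?_⟩
  obtain ⟨a, ha, b, hb, hab⟩ := h.2.2 g⁻¹ (K.inv_mem hg)
  exact ⟨b⁻¹, B.inv_mem hb, a⁻¹, A.inv_mem ha, by rw [← mul_inv_rev, ← hab, inv_inv]⟩

theorem eq_sup (h : IsProd K A B) : K = A ⊔ B := by
  refine le_antisymm (fun g hg => ?_) (sup_le h.1 h.2.1)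
  obtain ⟨a, ha, b, hb, rfl⟩ := h.2.2 g hg
  exact mul_mem (mem_sup_left ha) (mem_sup_right hb)

theorem card_mul (h : IsProd K A B) :
    Nat.card A * Nat.card B = Nat.card (A ⊓ B : Subgroup G) * Nat.card K := by
  rw [Grp.card_mul_card_eq, ← isProd_iff_coe.1 h]; rfl

theorem card_dvd (h : IsProd K A B) : Nat.card K ∣ Nat.card A * Nat.card B :=
  ⟨_, h.card_mul.trans (mul_comm _ _)⟩

theorem relIndex_dvd [Finite G] (h : IsProd K A B) : A.relIndex K ∣ Nat.card B := by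
  have := h.card_dvd
  rw [← Grp.card_mul_relIndex h.1] at this
  exact Nat.dvd_of_mul_dvd_mul_left Nat.card_pos this

theorem map {G' : Type*} [Group G'] (h : IsProd K A B) (f : G →* G') :
    IsProd (K.map f) (A.map f) (B.map f) := by
  refine ⟨map_mono h.1, map_mono h.2.1, ?_⟩
  rintro _ ⟨g, hg, rfl⟩
  obtain ⟨a, ha, b, hb, rfl⟩ := h.2.2 g hg
  exact ⟨f a, ⟨a, ha, rfl⟩, f b, ⟨b, hb, rfl⟩, map_mul f a b⟩

theorem conj (h : IsProd K A B) (g : G) :
    IsProd (MulAut.conj g • K) (MulAut.conj g • A) (MulAut.conj g • B) := h.map _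

theorem subgroupOf (h : IsProd K A B) :
    ∀ g : K, ∃ a ∈ A.subgroupOf K, ∃ b ∈ B.subgroupOf K, g = a * b := by
  intro g
  obtain ⟨a, ha, b, hb, hab⟩ := h.2.2 g g.2
  exact ⟨⟨a, h.1 ha⟩, ha, ⟨b, h.2.1 hb⟩, hb, Subtype.ext hab⟩

/-- Dedekind: an overgroup of `A` inside `K = A B` is `A (H ∩ B)`. -/
theorem inf_right (h : IsProd K A B) {H : Subgroup G} (hA : A ≤ H) (hK : H ≤ K) :
    IsProd H A (H ⊓ B) := by
  refine ⟨hA, inf_le_left, fun g hg => ?_⟩
  obtain ⟨a, ha, b, hb, rfl⟩ := h.2.2 g (hK hg)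
  exact ⟨a, ha, b, ⟨(H.mul_mem_cancel_left (hA ha)).1 hg, hb⟩, rfl⟩

/-- Conjugates of the two factors are simultaneously conjugate. -/
theorem exists_conj (h : IsProd K A B) {x y : G} (hx : x ∈ K) (hy : y ∈ K) :
    ∃ g ∈ K, (∃ a ∈ A, g = x * a) ∧ ∃ b ∈ B, g = y * b := by
  obtain ⟨a, ha, b, hb, hab⟩ := h.2.2 (x⁻¹ * y) (K.mul_mem (K.inv_mem hx) hy)
  refine ⟨x * a, K.mul_mem hx (h.1 ha), ⟨a, ha, rfl⟩, b⁻¹, B.inv_mem hb, ?_⟩
  rw [eq_mul_inv_iff_mul_eq, mul_assoc, ← hab, mul_inv_cancel_left]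

theorem exists_conj_eq (h : IsProd K A B) {A₀ B₀ : Subgroup G}
    (hA : A ≤ normalizer (A₀ : Set G)) (hB : B ≤ normalizer (B₀ : Set G)) {x y : G} (hx : x ∈ K)
    (hy : y ∈ K) : ∃ g ∈ K, MulAut.conj x • A₀ = MulAut.conj g • A₀ ∧
      MulAut.conj y • B₀ = MulAut.conj g • B₀ := by
  obtain ⟨g, hg, ⟨a, ha, h1⟩, b, hb, h2⟩ := h.exists_conj hx hy
  refine ⟨g, hg, ?_, ?_⟩
  · rw [h1, ← Grp.conj_smul_conj_smul, Grp.conj_smul_eq_iff_mem_normalizer.2 (hA ha)]
  · rw [h2, ← Grp.conj_smul_conj_smul, Grp.conj_smul_eq_iff_mem_normalizer.2 (hB hb)]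

theorem conj_conj (h : IsProd K A B) {x y : G} (hx : x ∈ K) (hy : y ∈ K) :
    IsProd K (MulAut.conj x • A) (MulAut.conj y • B) := by
  obtain ⟨g, hg, h1, h2⟩ := h.exists_conj_eq le_normalizer le_normalizer hx hy
  have := h.conj g
  rwa [← h1, ← h2, Grp.conj_smul_eq_of_mem hg] at this

theorem conj_right (h : IsProd K A B) {y : G} (hy : y ∈ K) : IsProd K A (MulAut.conj y • B) := by
  simpa using h.conj_conj K.one_mem hy

theorem conj_left (h : IsProd K A B) {x : G} (hx : x ∈ K) : IsProd K (MulAut.conj x • A) B := by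
  simpa using h.conj_conj hx K.one_mem

theorem eq_of_self (h : IsProd K A A) : K = A := by simpa using h.eq_sup

theorem isPGroup [Finite G] {p : ℕ} [hp : Fact p.Prime] (h : IsProd K A B) (hA : IsPGroup p A)
    (hB : IsPGroup p B) : IsPGroup p K := by
  obtain ⟨m, hm⟩ := IsPGroup.iff_card.1 hA
  obtain ⟨n, hn⟩ := IsPGroup.iff_card.1 hB
  have := h.card_dvd
  rw [hm, hn, ← pow_add] at this
  obtain ⟨k, -, hk⟩ := (Nat.dvd_prime_pow hp.out).1 this
  exact IsPGroup.of_card hk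

/-- The normalizer of `⟨A₀, B₀⟩` is factorized. -/
theorem normalizer_sup [Finite G] (h : IsProd ⊤ A B) {A₀ B₀ : Subgroup G}
    (hA : A ≤ normalizer (A₀ : Set G)) (hB : B ≤ normalizer (B₀ : Set G)) :
    IsProd (normalizer ((A₀ ⊔ B₀ : Subgroup G) : Set G))
      (normalizer ((A₀ ⊔ B₀ : Subgroup G) : Set G) ⊓ A)
      (normalizer ((A₀ ⊔ B₀ : Subgroup G) : Set G) ⊓ B) := by
  refine ⟨inf_le_left, inf_le_left, fun g hg => ?_⟩
  obtain ⟨a, ha, b, hb, rfl⟩ := h.2.2 g (mem_top g)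
  have h1 : A₀ ⊔ B₀ ≤ MulAut.conj b • (A₀ ⊔ B₀) := by
    refine sup_le ?_ ?_
    · have h2 : MulAut.conj b • (A₀ ⊔ B₀) = MulAut.conj a⁻¹ • (A₀ ⊔ B₀) := by
        conv_rhs => rw [← Grp.conj_smul_eq_iff_mem_normalizer.2 hg]
        rw [Grp.conj_smul_conj_smul, inv_mul_cancel_left]
      rw [h2, smul_sup, Grp.conj_smul_eq_iff_mem_normalizer.2 (hA (A.inv_mem ha))]
      exact le_sup_left
    · rw [smul_sup, Grp.conj_smul_eq_iff_mem_normalizer.2 (hB hb)]
      exact le_sup_right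
  have h2 : b ∈ normalizer ((A₀ ⊔ B₀ : Subgroup G) : Set G) :=
    Grp.conj_smul_eq_iff_mem_normalizer.1
      (eq_of_le_of_card_ge h1 (Grp.card_conj_smul b _).le).symm
  exact ⟨a, ⟨(Subgroup.mul_mem_cancel_right _ h2).1 hg, ha⟩, b, ⟨h2, hb⟩, rfl⟩

end IsProd

theorem isProd_of_card_le [Finite G] {K A B : Subgroup G} (hA : A ≤ K) (hB : B ≤ K)
    (h : Nat.card (A ⊓ B : Subgroup G) * Nat.card K ≤ Nat.card A * Nat.card B) : IsProd K A B :=
  isProd_iff_coe.2 (Grp.coe_eq_mul_of_card_le hA hB h)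

theorem isProd_sup_of_le_normalizer {A B : Subgroup G} (h : A ≤ normalizer (B : Set G)) :
    IsProd (A ⊔ B) A B :=
  isProd_iff_coe.2 (Grp.coe_sup_eq_mul_of_le_normalizer h)

theorem isProd_sup_of_le_normalizer' {A B : Subgroup G} (h : B ≤ normalizer (A : Set G)) :
    IsProd (A ⊔ B) A B := by
  rw [sup_comm]; exact (isProd_sup_of_le_normalizer h).symm

/-- If both `A₁` and `A₂` permute with `B`, so does their join. -/
theorem IsProd.sup_left {A₁ A₂ B K₁ K₂ : Subgroup G} (h₁ : IsProd K₁ A₁ B) (h₂ : IsProd K₂ A₂ B) :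
    IsProd (A₁ ⊔ A₂ ⊔ B) (A₁ ⊔ A₂) B := by
  -- elements `a` with `B a ⊆ (A₁ ⊔ A₂) B`
  have key : ∀ a ∈ A₁ ⊔ A₂, ∀ b ∈ B, ∃ a' ∈ A₁ ⊔ A₂, ∃ b' ∈ B, b * a = a' * b' := by
    intro a ha
    rw [sup_eq_closure] at ha
    induction ha using closure_induction'' with
    | mem x hx =>
      intro b hb
      rcases hx with hx | hx
      · obtain ⟨a', ha', b', hb', h⟩ := h₁.2.2 _ (K₁.mul_mem (h₁.2.1 hb) (h₁.1 hx))
        exact ⟨a', mem_sup_left ha', b', hb', h⟩
      · obtain ⟨a', ha', b', hb', h⟩ := h₂.2.2 _ (K₂.mul_mem (h₂.2.1 hb) (h₂.1 hx))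
        exact ⟨a', mem_sup_right ha', b', hb', h⟩
    | inv_mem x hx =>
      intro b hb
      rcases hx with hx | hx
      · obtain ⟨a', ha', b', hb', h⟩ := h₁.2.2 _ (K₁.mul_mem (h₁.2.1 hb) (h₁.1 (A₁.inv_mem hx)))
        exact ⟨a', mem_sup_left ha', b', hb', h⟩
      · obtain ⟨a', ha', b', hb', h⟩ := h₂.2.2 _ (K₂.mul_mem (h₂.2.1 hb) (h₂.1 (A₂.inv_mem hx)))
        exact ⟨a', mem_sup_right ha', b', hb', h⟩
    | one => exact fun b hb => ⟨1, one_mem _, b, hb, by simp⟩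
    | mul x y _ _ ihx ihy =>
      intro b hb
      obtain ⟨a₁, ha₁, b₁, hb₁, h1⟩ := ihx b hb
      obtain ⟨a₂, ha₂, b₂, hb₂, h2⟩ := ihy b₁ hb₁
      exact ⟨a₁ * a₂, mul_mem ha₁ ha₂, b₂, hb₂, by rw [← mul_assoc, h1, mul_assoc, h2, mul_assoc]⟩
  let S : Subgroup G :=
    { carrier := {g | ∃ a ∈ A₁ ⊔ A₂, ∃ b ∈ B, g = a * b}
      one_mem' := ⟨1, one_mem _, 1, one_mem _, by simp⟩
      mul_mem' := by
        rintro _ _ ⟨a, ha, b, hb, rfl⟩ ⟨a', ha', b', hb', rfl⟩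
        obtain ⟨a₁, ha₁, b₁, hb₁, h⟩ := key a' ha' b hb
        exact ⟨a * a₁, mul_mem ha ha₁, b₁ * b', mul_mem hb₁ hb', by
          rw [mul_assoc, ← mul_assoc b, h]; group⟩
      inv_mem' := by
        rintro _ ⟨a, ha, b, hb, rfl⟩
        obtain ⟨a₁, ha₁, b₁, hb₁, h⟩ := key a⁻¹ (inv_mem ha) b⁻¹ (inv_mem hb)
        exact ⟨a₁, ha₁, b₁, hb₁, by rw [mul_inv_rev, h]⟩ }
  refine ⟨le_sup_left, le_sup_right, fun g hg => ?_⟩
  have : A₁ ⊔ A₂ ⊔ B ≤ S :=
    sup_le (fun a ha => ⟨a, ha, 1, one_mem _, by simp⟩) fun b hb => ⟨1, one_mem _, b, hb, by simp⟩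
  exact this hg

/-- The inductive step of Kegel's lemmas: either every conjugate of `B` normalizes `A`, or `A` can be
enlarged inside some `A B^y` keeping the permutability with all conjugates of `B`. -/
theorem kegel_step {A B : Subgroup G}
    (h : ∀ x : G, IsProd (A ⊔ MulAut.conj x • B) A (MulAut.conj x • B)) :
    normalClosure (B : Set G) ≤ normalizer (A : Set G) ∨
      ∃ A₁ : Subgroup G, A < A₁ ∧ (∃ y : G, A₁ ≤ A ⊔ MulAut.conj y • B) ∧
        ∀ x : G, IsProd (A₁ ⊔ MulAut.conj x • B) A₁ (MulAut.conj x • B) := by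
  by_cases hn : ∀ y : G, ∀ b ∈ B, MulAut.conj (y * b * y⁻¹) • A ≤ A
  · left
    rw [normalClosure, closure_le]
    intro g hg
    obtain ⟨b, hb, hbg⟩ := Group.mem_conjugatesOfSet_iff.1 hg
    obtain ⟨y, rfl⟩ := isConj_iff.1 hbg
    rw [SetLike.mem_coe, ← Grp.conj_smul_eq_iff_mem_normalizer]
    refine le_antisymm (hn y b hb) ?_
    have := hn y b⁻¹ (B.inv_mem hb)
    rw [pointwise_smul_subset_iff, ← map_inv] at this
    simpa [mul_assoc] using this
  · right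
    push Not at hn
    obtain ⟨y, b, hb, hn⟩ := hn
    refine ⟨A ⊔ MulAut.conj (y * b * y⁻¹) • A, left_lt_sup.2 hn, ⟨y, sup_le le_sup_left ?_⟩,
      fun x => ?_⟩
    · exact Grp.conj_smul_le_of_mem_normalizer le_sup_left
        (le_normalizer (mem_sup_right (Grp.conj_mem_conj_smul y hb)))
    · have h2 := (h ((y * b * y⁻¹)⁻¹ * x)).conj (y * b * y⁻¹)
      rw [Grp.conj_smul_conj_smul, mul_inv_cancel_left] at h2
      exact (h x).sup_left h2

/-- **Kegel's lemma**: if `A B^x` is a proper subgroup for every `x`, then a proper normal subgroup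
contains `A` or `B`. -/
theorem kegel_normal [Finite G] {A B : Subgroup G}
    (h : ∀ x : G, IsProd (A ⊔ MulAut.conj x • B) A (MulAut.conj x • B))
    (hne : A ⊔ B ≠ ⊤) : ∃ N : Subgroup G, N.Normal ∧ N ≠ ⊤ ∧ (A ≤ N ∨ B ≤ N) := by
  induction A using WellFoundedGT.induction with
  | ind A ih =>
    rcases kegel_step h with h1 | ⟨A₁, hlt, ⟨y, hy⟩, h1⟩
    · by_cases hA : A.Normal
      · exact ⟨A, hA, fun h' => hne (by simp [h']), Or.inl le_rfl⟩
      · refine ⟨normalClosure (B : Set G), inferInstance, fun h' => hA ?_, Or.inr le_normalClosure⟩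
        rw [← normalizer_eq_top_iff, eq_top_iff, ← h']
        exact h1
    · have hne1 : A₁ ⊔ B ≠ ⊤ := by
        intro htop
        have h2 := h1 1
        rw [map_one, one_smul, htop] at h2
        have h3 := (h2.conj_right (mem_top y)).eq_sup
        have h4 : A ⊔ MulAut.conj y • B = ⊤ := by
          rw [eq_top_iff, h3]; exact sup_le hy le_sup_right
        have h5 := h y
        rw [h4] at h5
        have h6 := (h5.conj_right (mem_top y⁻¹)).eq_sup
        rw [Grp.conj_smul_conj_smul, inv_mul_cancel, map_one, one_smul] at h6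
        exact hne h6.symm
      obtain ⟨N, hN, hN', hN''⟩ := ih A₁ hlt h1 hne1
      exact ⟨N, hN, hN', hN''.imp_left hlt.le.trans⟩

/-- If the `p`-subgroup `A` permutes with all conjugates of the `p`-subgroup `B`, then
`[A, B] ≤ O_p(G)`. -/
theorem kegel_commutator_le_pCore [Finite G] {p : ℕ} [Fact p.Prime] {A B : Subgroup G}
    (hA : IsPGroup p A) (hB : IsPGroup p B)
    (h : ∀ x : G, IsProd (A ⊔ MulAut.conj x • B) A (MulAut.conj x • B)) :
    ⁅A, normalClosure (B : Set G)⁆ ≤ pCore p G := by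
  induction A using WellFoundedGT.induction with
  | ind A ih =>
    rcases kegel_step h with h1 | ⟨A₁, hlt, ⟨y, hy⟩, h1⟩
    · have h2 : ⁅A, normalClosure (B : Set G)⁆ ≤ A ⊓ normalClosure (B : Set G) :=
        le_inf (le_normalizer_iff_commutator_le_left.1 h1) (commutator_le_right _ _)
      refine h2.trans (Grp.le_pCore_of_isSubnormal (Grp.snIn_top_iff.1 ?_) hA.to_inf_left)
      refine Grp.SnIn.step inf_le_right ?_ (Grp.SnIn.of_normal le_top)
      exact (le_inf h1 le_normalizer).trans inf_normalizer_le_normalizer_inf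
    · have hA₁ : IsPGroup p A₁ := ((h y).isPGroup hA (hB.map _)).to_le hy
      exact (commutator_mono hlt.le le_rfl).trans (ih A₁ hlt hA₁ h1)

/-- Sylow subgroups of a factorized group. -/
theorem IsProd.exists_sylow [Finite G] {A B : Subgroup G} (h : IsProd ⊤ A B) (p : ℕ)
    [hp : Fact p.Prime] : ∃ (P Q : Subgroup G) (R : Sylow p G), PLocal.IsSylowIn p P A ∧
      PLocal.IsSylowIn p Q B ∧ IsProd R P Q := by
  obtain ⟨P₀, hP₀⟩ := PLocal.exists_isSylowIn p A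
  obtain ⟨Q₀, hQ₀⟩ := PLocal.exists_isSylowIn p B
  obtain ⟨R, hR⟩ := hP₀.isPGroup.exists_le_sylow
  obtain ⟨g, -, hg⟩ := (PLocal.isSylowIn_top R).exists_conj_le hQ₀.isPGroup le_top
  obtain ⟨a, ha, b, hb, rfl⟩ := h.2.2 g (mem_top g)
  have hP := hP₀.map_conj_of_mem (A.inv_mem ha)
  have hQ := hQ₀.map_conj_of_mem hb
  refine ⟨_, _, a⁻¹ • R, hP, hQ, isProd_of_card_le (map_mono hR) ?_ ?_⟩
  · rw [PLocal.map_conj_mul, PLocal.map_conj_le_iff] at hg
    exact hg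
  · rw [hP.card_eq, hQ.card_eq, Sylow.card_eq_multiplicity, ← pow_add]
    obtain ⟨T, hT, hle⟩ := PLocal.exists_isSylowIn_ge (H := A ⊓ B) hP.isPGroup.to_inf_left
      (inf_le_inf hP.le hQ.le)
    refine (Nat.mul_le_mul_right _ (card_le_of_le hle)).trans ?_
    rw [hT.card_eq, ← pow_add]
    have h1 := congrArg (fun n => n.factorization p) h.card_mul
    simp only [card_top] at h1
    rw [Nat.factorization_mul Nat.card_pos.ne' Nat.card_pos.ne',
      Nat.factorization_mul Nat.card_pos.ne' Nat.card_pos.ne'] at h1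
    exact le_of_eq (congrArg (p ^ ·) h1.symm)

/-- In a solvable factorized group `K = H₁ H₂`, Hall subgroups `A ⊴ H₁` and `B ⊴ H₂` permute. -/
theorem IsProd.isProd_sup_of_hall [Finite G] {K H₁ H₂ A B : Subgroup G} [Group.IsSolvable K]
    (h : IsProd K H₁ H₂) (hA : A ≤ K) (hAn : H₁ ≤ normalizer (A : Set G)) (hB : B ≤ K)
    (hBn : H₂ ≤ normalizer (B : Set G)) (hAh : (Nat.card A).Coprime (A.relIndex K))
    (hBh : (Nat.card B).Coprime (B.relIndex K)) : IsProd (A ⊔ B) A B := by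
  set n := Nat.gcd (A.relIndex K) (B.relIndex K) with hn
  set m := Nat.lcm (Nat.card A) (Nat.card B) with hm
  have hA' := Grp.card_mul_relIndex hA
  have hB' := Grp.card_mul_relIndex hB
  have hAn' : (Nat.card A).Coprime n := hAh.coprime_dvd_right (Nat.gcd_dvd_left _ _)
  have hBn' : (Nat.card B).Coprime n := hBh.coprime_dvd_right (Nat.gcd_dvd_right _ _)
  have hmn : Nat.card K = m * n := by
    have h1 := Nat.div_lcm_eq_div_gcd (Dvd.intro_left _ hA') (Dvd.intro_left _ hB')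
    have h2 : Nat.card K / A.relIndex K = Nat.card A := by
      rw [← hA']; exact Nat.mul_div_cancel _ (Nat.pos_of_ne_zero index_ne_zero_of_finite)
    have h3 : Nat.card K / B.relIndex K = Nat.card B := by
      rw [← hB']; exact Nat.mul_div_cancel _ (Nat.pos_of_ne_zero index_ne_zero_of_finite)
    rw [h2, h3] at h1
    rw [hm, h1, Nat.div_mul_cancel ((Nat.gcd_dvd_left _ _).trans (Dvd.intro_left _ hA'))]
  have hcop : m.Coprime n := (Nat.Coprime.mul_left hAn' hBn').coprime_dvd_left (Nat.lcm_dvd_mul _ _)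
  obtain ⟨L, hLK, hL, hAL⟩ := exists_hall_ge_in hmn hcop hA hAn'
  have hLi : L.relIndex K = n := relIndex_eq_of_card_eq_mul hLK hmn hL
  obtain ⟨g, hg, hBL⟩ := exists_conj_le_hall_in hLK hB (by rwa [hL, hLi]) (by rwa [hLi])
  have h1 : IsProd L A (MulAut.conj g • B) := by
    refine isProd_of_card_le hAL hBL ?_
    rw [hL, Grp.card_conj_smul, ← Nat.gcd_mul_lcm (Nat.card A)]
    refine Nat.mul_le_mul_right _ (Nat.le_of_dvd (Nat.gcd_pos_of_pos_left _ Nat.card_pos) ?_)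
    exact Nat.dvd_gcd (card_dvd_of_le inf_le_left)
      (Grp.card_conj_smul g B ▸ card_dvd_of_le inf_le_right)
  obtain ⟨c, -, h2, h3⟩ := h.exists_conj_eq hAn hBn K.one_mem hg
  have h4 := h1.conj c⁻¹
  rw [map_one, one_smul] at h2
  rw [h3, Grp.conj_smul_conj_smul, inv_mul_cancel, map_one, one_smul] at h4
  have h5 : MulAut.conj c⁻¹ • A = A := by
    conv_lhs => rw [h2]
    rw [Grp.conj_smul_conj_smul, inv_mul_cancel, map_one, one_smul]
  rw [h5] at h4
  exact h4.eq_sup ▸ h4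

/-- If `A₀ B₀` is a subgroup with `A₀ ⊴ A`, `B₀ ⊴ B` and `G = A B`, then `A₀` permutes with all
conjugates of `B₀`. -/
theorem IsProd.isProd_conj_conj {A B A₀ B₀ : Subgroup G} (h : IsProd ⊤ A B)
    (hA : A ≤ normalizer (A₀ : Set G)) (hB : B ≤ normalizer (B₀ : Set G))
    (h₀ : IsProd (A₀ ⊔ B₀) A₀ B₀) (x y : G) :
    IsProd (MulAut.conj x • A₀ ⊔ MulAut.conj y • B₀) (MulAut.conj x • A₀) (MulAut.conj y • B₀) := by
  obtain ⟨g, -, h1, h2⟩ := h.exists_conj_eq hA hB (mem_top x) (mem_top y)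
  rw [h1, h2, ← smul_sup]
  exact h₀.conj g

theorem IsProd.isProd_conj {A B A₀ B₀ : Subgroup G} (h : IsProd ⊤ A B)
    (hA : A ≤ normalizer (A₀ : Set G)) (hB : B ≤ normalizer (B₀ : Set G))
    (h₀ : IsProd (A₀ ⊔ B₀) A₀ B₀) (y : G) :
    IsProd (A₀ ⊔ MulAut.conj y • B₀) A₀ (MulAut.conj y • B₀) := by
  simpa using h.isProd_conj_conj hA hB h₀ 1 y

end Cfsg.Agent.Solv
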