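import Mathlib
import Cfsg.Agent.Solv.Factorized
import Cfsg.Agent.Solv.WielandtCompl
import Cfsg.Agent.Solv.CoprimeSylow
import Cfsg.Agent.Grp.CardProduct

/-! The minimal simple counterexample to Wielandt's theorem on products of two nilpotent groups of
coprime orders does not exist. -/

set_option autoImplicit false

namespace Cfsg.Agent.Solv.NA

open Subgroup Cfsg
open Cfsg.Agent.PLocal.Amb
open scoped Pointwise

variable {G : Type*} [Group G] [Finite G]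

/-- The configuration of a minimal simple counterexample. -/
structure KW (A B : Subgroup G) : Prop where
  simple : IsSimpleGroup G
  prod : IsProd ⊤ A B
  nilA : Group.IsNilpotent A
  nilB : Group.IsNilpotent B
  cop : (Nat.card A).Coprime (Nat.card B)
  npA : ∀ p : ℕ, p.Prime → ¬ IsPGroup p A
  npB : ∀ p : ℕ, p.Prime → ¬ IsPGroup p B
  ih : ∀ K A' B' : Subgroup G, K ≠ ⊤ → IsProd K A' B' → Group.IsNilpotent A' →
    Group.IsNilpotent B' → (Nat.card A').Coprime (Nat.card B') → Group.IsSolvable K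

namespace KW

variable {A B : Subgroup G}

omit [Finite G] in
theorem symm (h : KW A B) : KW B A :=
  ⟨h.simple, h.prod.symm, h.nilB, h.nilA, h.cop.symm, h.npB, h.npA, h.ih⟩

omit [Finite G] in
theorem cj_left (h : KW A B) (g : G) : KW cj(g, A) B :=
  ⟨h.simple, h.prod.conj_left (mem_top g), by have := h.nilA; exact Grp.isNilpotent_map A _,
    h.nilB, by rw [card_cj]; exact h.cop, fun p hp h' => h.npA p hp (isPGroup_cj_iff.1 h'),
    h.npB, h.ih⟩

omit [Finite G] in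
theorem cj_right (h : KW A B) (g : G) : KW A cj(g, B) := (h.symm.cj_left g).symm

theorem index_dvd (h : KW A B) : A.index ∣ Nat.card B := by
  have := h.prod.relIndex_dvd
  rwa [relIndex_top_right] at this

omit [Finite G] in
theorem dvd_or (h : KW A B) {p : ℕ} (hp : p.Prime) {X : Subgroup G} (hd : p ∣ Nat.card X) :
    p ∣ Nat.card A ∨ p ∣ Nat.card B :=
  (Nat.Prime.dvd_mul hp).1 ((hd.trans (card_dvd_of_le le_top)).trans h.prod.card_dvd)

omit [Finite G] in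
theorem not_dvd (h : KW A B) {p : ℕ} (hp : p.Prime) (hd : p ∣ Nat.card A) : ¬ p ∣ Nat.card B :=
  fun hd' => hp.one_lt.ne' (Nat.eq_one_of_dvd_coprimes h.cop hd hd')

omit [Finite G] in
theorem normalizer_ne_top (h : KW A B) {X : Subgroup G} (h1 : X ≠ ⊥) (h2 : X ≠ ⊤) :
    𝐍[X] ≠ ⊤ := fun h3 => by
  have := h.simple
  rcases (normalizer_eq_top_iff.1 h3).eq_bot_or_eq_top with h4 | h4
  exacts [h1 h4, h2 h4]

omit [Finite G] in
theorem ne_top_of_isPGroup (h : KW A B) {p : ℕ} (hp : p.Prime) {X : Subgroup G}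
    (hX : IsPGroup p X) : X ≠ ⊤ := by
  rintro rfl
  exact h.npA p hp (hX.to_le le_top)

omit [Finite G] in
theorem ne_bot (h : KW A B) : A ≠ ⊥ := by
  rintro rfl
  exact h.npA 2 Nat.prime_two IsPGroup.of_bot

theorem ne_top (h : KW A B) : A ≠ ⊤ := by
  rintro rfl
  have h1 : Nat.card B = 1 := Nat.eq_one_of_dvd_coprimes h.cop (card_dvd_of_le le_top) dvd_rfl
  exact h.symm.ne_bot (eq_bot_of_card_eq B h1)

theorem centralizer_ne_top (h : KW A B) {u : G} (hu : u ≠ 1) : centralizer ({u} : Set G) ≠ ⊤ := by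
  intro h1
  obtain ⟨p, hp, hd⟩ := Nat.exists_prime_and_dvd (show orderOf u ≠ 1 by simpa using hu)
  have := Fact.mk hp
  obtain ⟨z, hz⟩ := exists_prime_orderOf_dvd_card' (G := zpowers u) p (by rwa [Nat.card_zpowers])
  have h2 : IsPGroup p (zpowers (z : G)) :=
    isPGroup_zpowers ⟨1, by rw [pow_one, ← hz, ← Subgroup.orderOf_coe, pow_orderOf_eq_one]⟩
  have h3 : zpowers (z : G) ≠ ⊥ := by
    rw [Ne, zpowers_eq_bot, ← orderOf_eq_one_iff, Subgroup.orderOf_coe, hz]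
    exact hp.one_lt.ne'
  refine h.normalizer_ne_top h3 (h.ne_top_of_isPGroup hp h2) (eq_top_iff.2 ?_)
  refine le_trans ?_ (centralizer_le_normalizer' _)
  refine le_trans ?_ (centralizer_anti (zpowers_le.2 z.2))
  rw [centralizer_zpowers, h1]

omit [Finite G] in
theorem solvable (h : KW A B) {K : Subgroup G} (hK : IsProd K (K ⊓ A) (K ⊓ B)) (h1 : K ≠ ⊤) :
    Group.IsSolvable K := by
  have := h.nilA
  have := h.nilB
  exact h.ih K _ _ h1 hK (Grp.isNilpotent_of_le inf_le_right) (Grp.isNilpotent_of_le inf_le_right)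
    ((h.cop.coprime_dvd_left (card_dvd_of_le inf_le_right)).coprime_dvd_right
      (card_dvd_of_le inf_le_right))

theorem le_of_normal {K N : Subgroup G} (hK : IsProd K (K ⊓ A) (K ⊓ B)) (hN : N ≤ K)
    (hn : K ≤ 𝐍[N]) (hc : (Nat.card N).Coprime (Nat.card B)) : N ≤ A :=
  (le_of_coprime_relIndex hN hn (hc.coprime_dvd_right
    (hK.relIndex_dvd.trans (card_dvd_of_le inf_le_right)))).trans inf_le_right

theorem coprime_of_isPGroup (h : KW A B) {p : ℕ} (hp : p.Prime) (hd : p ∣ Nat.card A)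
    {P : Subgroup G} (hP : IsPGroup p P) : (Nat.card P).Coprime (Nat.card B) := by
  have := Fact.mk hp
  obtain ⟨k, hk⟩ := hP.exists_card_eq
  rw [hk]
  exact ((Nat.Prime.coprime_iff_not_dvd hp).2 (h.not_dvd hp hd)).pow_left k

theorem exists_le_cj (h : KW A B) {q : ℕ} (hq : q.Prime) (hd : ¬ q ∣ Nat.card A)
    {Q : Subgroup G} (hQ : IsPGroup q Q) : ∃ g : G, Q ≤ cj(g, B) := by
  have := Fact.mk hq
  exact exists_le_conj_of_isPGroup_of_not_dvd_index hQ fun h1 => hd (h1.trans h.symm.index_dvd)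

theorem le_of_le_normalizer (h : KW A B) {D : Subgroup G} (hD : D ≤ 𝐍[A])
    (hc : (Nat.card D).Coprime (Nat.card B)) : D ≤ A :=
  le_of_le_normalizer_of_coprime le_top le_top hD (hc.coprime_dvd_right h.prod.relIndex_dvd)

theorem coprime_pRes (h : KW A B) {p : ℕ} (hp : p.Prime) {L : Subgroup G} (hL : 𝐎[p, A] ≤ L) :
    (Nat.card ↥𝐎[p, A]).Coprime ((𝐎[p, A]).relIndex L) := by
  have := Fact.mk hp
  refine Nat.Coprime.coprime_dvd_right (relIndex_dvd_index_of_le hL) ?_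
  rw [← relIndex_mul_index (pRes_le p A)]
  obtain ⟨k, hk⟩ := relIndex_pRes p A
  rw [hk]
  exact Nat.Coprime.mul_right ((coprime_card_pRes h.nilA).pow_right k)
    ((h.cop.coprime_dvd_left (card_dvd_of_le (pRes_le p A))).coprime_dvd_right h.index_dvd)

/-- pairs of nontrivial normal subgroups of the factors -/
def Pair (A B A₀ B₀ : Subgroup G) : Prop :=
  (A₀ ≠ ⊥ ∧ A₀ ≤ A ∧ A ≤ 𝐍[A₀]) ∧ (B₀ ≠ ⊥ ∧ B₀ ≤ B ∧ B ≤ 𝐍[B₀])

theorem gen_step (h : KW A B) {A₀ B₀ X : Subgroup G} (hP : Pair A B A₀ B₀) (hX : X = A₀ ⊔ B₀)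
    (hne : X ≠ ⊤) (hmax : ∀ A₁ B₁, Pair A B A₁ B₁ → X < A₁ ⊔ B₁ → A₁ ⊔ B₁ = ⊤) {p : ℕ}
    (hp : p.Prime) (hd : p ∣ Nat.card A) (h1 : pCoreOf p X ≠ ⊥) :
    pCoreOf p X ≤ A ∧ 𝐎[p, A] ≤ X := by
  have hL := h.prod.normalizer_sup hP.1.2.2 hP.2.2.2
  rw [← hX] at hL
  have h2 : pCoreOf p X ≤ A := le_of_normal hL ((pCoreOf_le p X).trans le_normalizer)
    (normalizer_le_normalizer_pCoreOf p X) (h.coprime_of_isPGroup hp hd (isPGroup_pCoreOf p X))
  refine ⟨h2, ?_⟩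
  by_contra h3
  have h4 : X < (A₀ ⊔ 𝐎[p, A]) ⊔ B₀ := by
    refine lt_of_le_of_ne (hX ▸ sup_le_sup_right le_sup_left _) fun h5 => h3 ?_
    rw [h5]; exact le_sup_right.trans le_sup_left
  have h5 := hmax _ _ ⟨⟨fun h0 => hP.1.1 (eq_bot_iff.2 (le_sup_left.trans h0.le)),
    sup_le hP.1.2.1 (pRes_le p A), le_normalizer_sup hP.1.2.2 (le_normalizer_pRes p A)⟩, hP.2⟩ h4
  refine h.normalizer_ne_top h1 (h.ne_top_of_isPGroup hp (isPGroup_pCoreOf p X)) ?_
  rw [eq_top_iff, ← h5]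
  have h6 : X ≤ 𝐍[pCoreOf p X] := le_normalizer_pCoreOf p X
  refine sup_le (sup_le (le_trans (hX ▸ le_sup_left) h6) ?_) (le_trans (hX ▸ le_sup_right) h6)
  exact (pRes_le_centralizer h.nilA (isPGroup_pCoreOf p X) h2).trans (centralizer_le_normalizer' _)

theorem gen_aux (h : KW A B) {A₀ B₀ X : Subgroup G} (hP : Pair A B A₀ B₀) (hX : X = A₀ ⊔ B₀)
    (hne : X ≠ ⊤) (hmax : ∀ A₁ B₁, Pair A B A₁ B₁ → X < A₁ ⊔ B₁ → A₁ ⊔ B₁ = ⊤) {p : ℕ}
    (hp : p.Prime) (hd : p ∣ Nat.card A) (h1 : pCoreOf p X ≠ ⊥) : False := by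
  have := Fact.mk hp
  have := h.simple
  have hL := h.prod.normalizer_sup hP.1.2.2 hP.2.2.2
  rw [← hX] at hL
  have hX0 : X ≠ ⊥ := fun h0 => hP.1.1 (eq_bot_iff.2 (le_trans (hX ▸ le_sup_left) h0.le))
  have hLs := h.solvable hL (h.normalizer_ne_top hX0 hne)
  have hXs : Group.IsSolvable X := Grp.isSolvable_of_le (K := 𝐍[X]) le_normalizer
  obtain ⟨h2, h3⟩ := h.gen_step hP hX hne hmax hp hd h1
  have hA0 : 𝐎[p, A] ≠ ⊥ := pRes_ne_bot (h.npA p hp)
  obtain ⟨r, hr, hrp, h4⟩ : ∃ r : ℕ, r.Prime ∧ r ≠ p ∧ pCoreOf r X ≠ ⊥ := by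
    by_contra hc
    push Not at hc
    have h5 : 𝐎[p, A] ≤ pCoreOf p X := by
      refine (le_fitting_of_forall_centralizer hXs h3 fun r hr => ?_).trans
        (fitting_le_of_forall fun r hr => ?_)
      · by_cases hrp : r = p
        · subst hrp; exact pRes_le_centralizer h.nilA (isPGroup_pCoreOf r X) h2
        · rw [hc r hr hrp]; exact le_centralizer_iff.1 bot_le
      · by_cases hrp : r = p
        · rw [hrp]
        · rw [hc r hr hrp]; exact bot_le
    apply hA0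
    rw [← inf_eq_right.2 h5]
    exact Grp.inf_eq_bot_of_isPGroup_of_coprime (isPGroup_pCoreOf p X) (coprime_card_pRes h.nilA)
  have := Fact.mk hr
  rcases h.dvd_or hr (dvd_card_of_ne_bot (isPGroup_pCoreOf r X) h4) with h5 | h5
  · obtain ⟨-, h6⟩ := h.gen_step hP hX hne hmax hr h5 h4
    have h7 : A ≤ X := by
      rw [← pRes_sup_pRes hp hr hrp A]; exact sup_le h3 h6
    have h8 : normalClosure (B₀ : Set G) ≤ X := by
      refine (closure_le _).2 fun x hx => ?_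
      obtain ⟨b, hb, hc⟩ := Group.mem_conjugatesOfSet_iff.1 hx
      obtain ⟨g, rfl⟩ := isConj_iff.1 hc
      obtain ⟨a, ha, c, hc', rfl⟩ := h.prod.2.2 g (mem_top g)
      have h9 : c * b * c⁻¹ ∈ X :=
        (hX ▸ le_sup_right : B₀ ≤ X) (conj_mem_of_mem_normalizer (hP.2.2.2 hc') hb)
      have : a * c * b * (a * c)⁻¹ = a * (c * b * c⁻¹) * a⁻¹ := by group
      rw [this]
      exact mul_mem (mul_mem (h7 ha) h9) (inv_mem (h7 ha))
    rcases (inferInstance : (normalClosure (B₀ : Set G)).Normal).eq_bot_or_eq_top with h9 | h9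
    · exact hP.2.1 (eq_bot_iff.2 (le_normalClosure.trans h9.le))
    · exact hne (eq_top_iff.2 (h9 ▸ h8))
  · obtain ⟨-, h6⟩ := h.symm.gen_step (A₀ := B₀) (B₀ := A₀) ⟨hP.2, hP.1⟩ (hX.trans (sup_comm _ _))
      hne (fun A₁ B₁ h7 h8 => by
        rw [sup_comm] at h8 ⊢; exact hmax _ _ ⟨h7.2, h7.1⟩ h8) hr h5 h4
    have h7 := hL.isProd_sup_of_hall (h3.trans le_normalizer)
      (inf_le_right.trans (le_normalizer_pRes p A)) (h6.trans le_normalizer)
      (inf_le_right.trans (le_normalizer_pRes r B)) (h.coprime_pRes hp (h3.trans le_normalizer))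
      (h.symm.coprime_pRes hr (h6.trans le_normalizer))
    obtain ⟨N, hN, hN1, hN2⟩ := kegel_normal
      (h.prod.isProd_conj (le_normalizer_pRes p A) (le_normalizer_pRes r B) h7)
      (fun h8 => hne (eq_top_iff.2 (h8 ▸ sup_le h3 h6)))
    have h9 := hN.eq_bot_or_eq_top.resolve_right hN1
    rcases hN2 with h10 | h10
    · exact hA0 (eq_bot_iff.2 (h9 ▸ h10))
    · exact pRes_ne_bot (h.npB r hr) (eq_bot_iff.2 (h9 ▸ h10))

/-- Nontrivial normal subgroups of the two factors generate the group. -/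
theorem gen (h : KW A B) {A₀ B₀ : Subgroup G} (hP : Pair A B A₀ B₀) : A₀ ⊔ B₀ = ⊤ := by
  suffices H : ∀ X : Subgroup G, ∀ A₀ B₀, Pair A B A₀ B₀ → X = A₀ ⊔ B₀ → X = ⊤ from
    H _ _ _ hP rfl
  intro X
  induction X using WellFoundedGT.induction with
  | ind X ih =>
    intro A₀ B₀ hP hX
    by_contra hne
    have hmax : ∀ A₁ B₁, Pair A B A₁ B₁ → X < A₁ ⊔ B₁ → A₁ ⊔ B₁ = ⊤ :=
      fun A₁ B₁ h1 h2 => ih _ h2 _ _ h1 rfl
    have hL := h.prod.normalizer_sup hP.1.2.2 hP.2.2.2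
    rw [← hX] at hL
    have hX0 : X ≠ ⊥ := fun h0 => hP.1.1 (eq_bot_iff.2 (le_trans (hX ▸ le_sup_left) h0.le))
    have hLs := h.solvable hL (h.normalizer_ne_top hX0 hne)
    have hXs : Group.IsSolvable X := Grp.isSolvable_of_le (K := 𝐍[X]) le_normalizer
    obtain ⟨p, hp, h1⟩ := exists_pCoreOf_ne_bot hXs hX0
    have := Fact.mk hp
    rcases h.dvd_or hp (dvd_card_of_ne_bot (isPGroup_pCoreOf p X) h1) with h2 | h2
    · exact h.gen_aux hP hX hne hmax hp h2 h1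
    · exact h.symm.gen_aux (A₀ := B₀) (B₀ := A₀) ⟨hP.2, hP.1⟩ (hX.trans (sup_comm _ _)) hne
        (fun A₁ B₁ h7 h8 => by
          rw [sup_comm] at h8 ⊢; exact hmax _ _ ⟨h7.2, h7.1⟩ h8) hp h2 h1

end KW

end Cfsg.Agent.Solv.NA
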