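import Mathlib
import Cfsg.Agent.Solv.KegelWielandt1

/-! The minimal simple counterexample to Wielandt's theorem does not exist (second part). -/

set_option autoImplicit false

namespace Cfsg.Agent.Solv.NA

open Subgroup Cfsg
open Cfsg.Agent.PLocal.Amb
open scoped Pointwise

variable {G : Type*} [Group G] [Finite G]

omit [Finite G] in
theorem le_centralizer_singleton_of_mem {A : Subgroup G} {z : G} (hz : z ∈ 𝐂[A]) :
    A ≤ centralizer ({z} : Set G) := by
  rw [← centralizer_zpowers, le_centralizer_iff]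
  exact zpowers_le.2 hz

omit [Finite G] in
theorem center_le_centralizer_singleton {A : Subgroup G} {u : G} (hu : u ∈ A) :
    A ⊓ 𝐂[A] ≤ centralizer ({u} : Set G) := by
  rw [← centralizer_zpowers]
  exact inf_le_right.trans (centralizer_anti (zpowers_le.2 hu))

omit [Finite G] in
theorem isPGroup_zpowers_of_orderOf {p : ℕ} {z : G} (hz : orderOf z = p) :
    IsPGroup p (zpowers z) :=
  isPGroup_zpowers ⟨1, by rw [pow_one, ← hz, pow_orderOf_eq_one]⟩

omit [Finite G] in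
theorem ne_one_of_orderOf {p : ℕ} (hp : p.Prime) {z : G} (hz : orderOf z = p) : z ≠ 1 := by
  rintro rfl
  exact hp.one_lt.ne (by rw [← hz, orderOf_one])

namespace KW

variable {A B : Subgroup G}

theorem no_norm_aux (h : KW A B) {V : Subgroup G} (hV : V ≠ ⊥) (hVB : V ≤ B) {z : G}
    (hzA : z ∈ A) (hz : z ∈ 𝐂[A]) (hz1 : z ≠ 1) {q : ℕ} (hq : q.Prime) (hVq : IsPGroup q V) :
    z ∉ 𝐍[V] := fun hn => by
  have := Fact.mk hq
  have h1 := h.gen (A₀ := zpowers z) (B₀ := 𝐎[q, B])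
    ⟨⟨by simpa using hz1, zpowers_le.2 hzA,
      (le_centralizer_iff.1 (zpowers_le.2 hz)).trans (centralizer_le_normalizer' _)⟩,
     pRes_ne_bot (h.npB q hq), pRes_le q B, le_normalizer_pRes q B⟩
  refine h.normalizer_ne_top hV (h.ne_top_of_isPGroup hq hVq) (eq_top_iff.2 ?_)
  rw [← h1]
  exact sup_le (zpowers_le.2 hn)
    ((pRes_le_centralizer h.nilB hVq hVB).trans (centralizer_le_normalizer' _))

/-- A central element of `A` normalizes no nontrivial `q`-subgroup for `q` prime to `|A|`. -/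
theorem no_norm (h : KW A B) {V : Subgroup G} (hV : V ≠ ⊥) {q : ℕ} (hq : q.Prime)
    (hVq : IsPGroup q V) (hd : ¬ q ∣ Nat.card A) {z : G} (hzA : z ∈ A) (hz : z ∈ 𝐂[A])
    (hz1 : z ≠ 1) : z ∉ 𝐍[V] := by
  obtain ⟨g, hg⟩ := h.exists_le_cj hq hd hVq
  exact (h.cj_right g).no_norm_aux hV hg hzA hz hz1 hq hVq

theorem exists_central (h : KW A B) : ∃ z ∈ A, z ∈ 𝐂[A] ∧ z ≠ 1 := by
  obtain ⟨p, -, hp, -, -, hd, -⟩ := exists_two_primes h.npA
  have := Fact.mk hp
  obtain ⟨z, h1, h2, h3⟩ := exists_central_of_dvd h.nilA hd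
  exact ⟨z, h1, h2, ne_one_of_orderOf hp h3⟩

theorem pCoreOf_le_left (h : KW A B) {K : Subgroup G} (hK : IsProd K (K ⊓ A) (K ⊓ B))
    (hZ : A ⊓ 𝐂[A] ≤ K) {r : ℕ} (hr : r.Prime) : pCoreOf r K ≤ A := by
  by_cases hd : r ∣ Nat.card A
  · exact le_of_normal hK (pCoreOf_le r K) (le_normalizer_pCoreOf r K)
      (h.coprime_of_isPGroup hr hd (isPGroup_pCoreOf r K))
  · obtain ⟨z, h1, h2, h3⟩ := h.exists_central
    have h4 : pCoreOf r K = ⊥ := by
      by_contra h0
      exact h.no_norm h0 hr (isPGroup_pCoreOf r K) hd h1 h2 h3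
        (le_normalizer_pCoreOf r K (hZ ⟨h1, h2⟩))
    rw [h4]; exact bot_le

theorem center_le_fitting (h : KW A B) {K : Subgroup G} (hK : IsProd K (K ⊓ A) (K ⊓ B))
    (hne : K ≠ ⊤) (hZ : A ⊓ 𝐂[A] ≤ K) : A ⊓ 𝐂[A] ≤ (fittingSubgroup K).map K.subtype :=
  le_fitting_of_forall_centralizer (h.solvable hK hne) hZ fun _ hr =>
    inf_le_right.trans (centralizer_anti (h.pCoreOf_le_left hK hZ hr))

/-- Every proper subgroup containing `A` normalizes `A`. -/
theorem le_normalizer_of_le (h : KW A B) {K : Subgroup G} (hne : K ≠ ⊤) (hAK : A ≤ K) :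
    K ≤ 𝐍[A] := by
  have hK : IsProd K (K ⊓ A) (K ⊓ B) := by
    rw [inf_eq_right.2 hAK]; exact h.prod.inf_right hAK le_top
  have hZ : A ⊓ 𝐂[A] ≤ K := inf_le_left.trans hAK
  have key : ∀ r : ℕ, r.Prime → r ∣ Nat.card A → 𝐎[r, A] ≤ (fittingSubgroup K).map K.subtype := by
    intro r hr hd
    have := Fact.mk hr
    obtain ⟨z, h1, h2, h3⟩ := exists_central_of_dvd h.nilA hd
    have h4 : zpowers z ≤ pCoreOf r K := le_pCoreOf_of_le_fitting (isPGroup_zpowers_of_orderOf h3)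
      (zpowers_le.2 (h.center_le_fitting hK hne hZ ⟨h1, h2⟩))
    have h5 : K ≤ 𝐍[K ⊓ 𝐂[pCoreOf r K]] :=
      le_normalizer_inf le_normalizer (le_normalizer_centralizer (le_normalizer_pCoreOf r K))
    have h6 : K ⊓ 𝐂[pCoreOf r K] ≤ A := by
      refine le_of_normal hK inf_le_left h5 (Nat.coprime_of_dvd fun q hq hq1 hq2 => ?_)
      have := Fact.mk hq
      obtain ⟨Q, hQ⟩ := exists_isSyl q (K ⊓ 𝐂[pCoreOf r K])
      refine h.no_norm (fun h0 => hQ.eq_bot_iff.1 h0 hq1) hq hQ.pgrp (h.symm.not_dvd hq hq2) h1 h2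
        (ne_one_of_orderOf hr h3) (centralizer_le_normalizer' _ ?_)
      exact (h4.trans (le_centralizer_iff.1 (hQ.le.trans inf_le_right))) (mem_zpowers z)
    have := h.nilA
    refine le_trans ?_ (Grp.le_map_fitting inf_le_left h5 (Grp.isNilpotent_of_le h6))
    exact le_inf ((pRes_le r A).trans hAK)
      (pRes_le_centralizer h.nilA (isPGroup_pCoreOf r K) (h.pCoreOf_le_left hK hZ hr))
  obtain ⟨p, r, hp, hr, hne', hd, hd'⟩ := exists_two_primes h.npA
  have h1 : A = (fittingSubgroup K).map K.subtype := by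
    refine le_antisymm ?_ (fitting_le_of_forall fun r hr => h.pCoreOf_le_left hK hZ hr)
    exact (pRes_sup_pRes hp hr hne' A).symm.le.trans (sup_le (key p hp hd) (key r hr hd'))
  rw [h1]
  exact le_normalizer_map_subtype _

theorem centralizer_le_of_central (h : KW A B) {z : G} (hz : z ∈ 𝐂[A]) (hz1 : z ≠ 1) :
    centralizer ({z} : Set G) ≤ 𝐍[A] :=
  h.le_normalizer_of_le (h.centralizer_ne_top hz1) (le_centralizer_singleton_of_mem hz)

theorem le_of_center_le (h : KW A B) {A' : Subgroup G} (hA' : Group.IsNilpotent A')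
    (hc : (Nat.card A').Coprime (Nat.card B)) (hZ : A ⊓ 𝐂[A] ≤ A') : A' ≤ A := by
  have key : ∀ r : ℕ, r.Prime → r ∣ Nat.card A → 𝐎[r, A'] ≤ A := by
    intro r hr hd
    have := Fact.mk hr
    obtain ⟨z, h1, h2, h3⟩ := exists_central_of_dvd h.nilA hd
    refine h.le_of_le_normalizer ?_ (hc.coprime_dvd_left (card_dvd_of_le (pRes_le r A')))
    refine le_trans ?_ (h.centralizer_le_of_central h2 (ne_one_of_orderOf hr h3))
    rw [← centralizer_zpowers]
    exact pRes_le_centralizer hA' (isPGroup_zpowers_of_orderOf h3) (zpowers_le.2 (hZ ⟨h1, h2⟩))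
  obtain ⟨p, r, hp, hr, hne', hd, hd'⟩ := exists_two_primes h.npA
  exact (pRes_sup_pRes hp hr hne' A').symm.le.trans (sup_le (key p hp hd) (key r hr hd'))

theorem mem_normalizer_of_center_le (h : KW A B) {g : G} (hZ : A ⊓ 𝐂[A] ≤ 𝐍[cj(g, A)]) :
    g ∈ 𝐍[A] :=
  mem_normalizer_of_cj_le (h.le_of_center_le (h.cj_left g).nilA (h.cj_left g).cop
    ((h.cj_left g).le_of_le_normalizer hZ (h.cop.coprime_dvd_left (card_dvd_of_le inf_le_left))))

theorem fac_le_normalizer (h : KW A B) {K : Subgroup G} (hK : IsProd K (K ⊓ A) (K ⊓ B))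
    (hne : K ≠ ⊤) (hZ : A ⊓ 𝐂[A] ≤ K) : K ≤ 𝐍[A] := by
  intro k hk
  refine h.mem_normalizer_of_center_le (le_trans ?_ le_normalizer)
  rw [le_cj_iff]
  refine le_trans ?_ (fitting_le_of_forall fun r hr => h.pCoreOf_le_left hK hZ hr)
  exact cj_le_of_mem_normalizer (h.center_le_fitting hK hne hZ)
    (le_normalizer_map_subtype _ (inv_mem hk))

theorem strongly_closed (h : KW A B) {z c : G} (hz : z ∈ 𝐂[A]) (hz1 : z ≠ 1)
    (hc : c * z * c⁻¹ ∈ A) : c ∈ 𝐍[A] := by
  refine h.mem_normalizer_of_center_le ((center_le_centralizer_singleton hc).trans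
    ((h.cj_left c).centralizer_le_of_central ?_ (by simpa using hz1)))
  rw [centralizer_cj]
  exact conj_mem_cj c hz

omit [Finite G] in
theorem fac_centralizer (h : KW A B) {y : G} (hA : y ∈ 𝐍[A]) (hB : y ∈ 𝐍[B]) :
    IsProd (centralizer {y}) (centralizer {y} ⊓ A) (centralizer {y} ⊓ B) := by
  refine ⟨inf_le_left, inf_le_left, fun g hg => ?_⟩
  obtain ⟨a, ha, b, hb, rfl⟩ := h.prod.2.2 g (mem_top g)
  have h1 : y * (a * b) = a * b * y := (mem_centralizer_singleton_iff.1 hg).symm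
  have h2 : a⁻¹ * (y * a * y⁻¹) = b * (y * b * y⁻¹)⁻¹ := by
    calc a⁻¹ * (y * a * y⁻¹) = a⁻¹ * (y * (a * b)) * b⁻¹ * y⁻¹ := by group
      _ = b * (y * b * y⁻¹)⁻¹ := by rw [h1]; group
  have h3 : a⁻¹ * (y * a * y⁻¹) ∈ A ⊓ B :=
    ⟨A.mul_mem (A.inv_mem ha) (conj_mem_of_mem_normalizer hA ha),
      h2 ▸ B.mul_mem hb (B.inv_mem (conj_mem_of_mem_normalizer hB hb))⟩
  rw [inf_eq_bot_of_coprime h.cop, mem_bot] at h3
  have h4 : a ∈ centralizer ({y} : Set G) := by
    rw [mem_centralizer_singleton_iff]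
    calc a * y = a * (a⁻¹ * (y * a * y⁻¹)) * y := by rw [h3, mul_one]
      _ = y * a := by group
  exact ⟨a, ⟨h4, ha⟩, b, ⟨(mul_mem_cancel_left h4).1 hg, hb⟩, rfl⟩

theorem centralizer_le (h : KW A B) {u : G} (huA : u ∈ A) (hu : u ≠ 1) :
    centralizer ({u} : Set G) ≤ 𝐍[A] := by
  have hZ := center_le_centralizer_singleton huA
  by_cases hD : centralizer ({u} : Set G) ⊓ 𝐍[A] ≤ A
  · have := h.nilA
    have hcen : ∀ r : ℕ, r.Prime → r ∣ Nat.card A →
        ∃ z ∈ centralizer ({u} : Set G) ⊓ A, z ∈ 𝐂[A] ∧ orderOf z = r := by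
      intro r hr hd
      have := Fact.mk hr
      obtain ⟨z, h1, h2, h3⟩ := exists_central_of_dvd h.nilA hd
      exact ⟨z, ⟨hZ ⟨h1, h2⟩, h1⟩, h2, h3⟩
    have hH : Group.IsNilpotent (centralizer ({u} : Set G) ⊓ A : Subgroup G) :=
      Grp.isNilpotent_of_le inf_le_right
    obtain ⟨M, hM1, hM2, hM3, hM4⟩ := exists_compl_of_normalizer_le
      (H := centralizer ({u} : Set G) ⊓ A) (K := centralizer ({u} : Set G)) inf_le_left hH
      (fun p hp hP => by
        have := Fact.mk hp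
        obtain ⟨r, hr, hne, hd⟩ := exists_prime_ne_of_not_isPGroup (h.npA p hp)
        obtain ⟨z, h1, -, h3⟩ := hcen r hr hd
        exact ne_one_of_orderOf hr h3 (eq_one_of_isPGroup_of_coprime hP h1
          (by rw [h3]; exact (Nat.coprime_primes hr hp).2 hne)))
      (fun r hr hd c hc => by
        have := Fact.mk hr
        obtain ⟨z, h1, h2, h3⟩ := hcen r hr (hd.trans (card_dvd_of_le inf_le_right))
        have h4 : z ∈ pCoreOf r (centralizer ({u} : Set G) ⊓ A) :=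
          le_pCoreOf_of_isNilpotent hH (isPGroup_zpowers_of_orderOf h3) (zpowers_le.2 h1)
            (mem_zpowers z)
        exact ⟨hc.1, hD ⟨hc.1, h.strongly_closed h2 (ne_one_of_orderOf hr h3)
          (pCoreOf_le r _ (conj_mem_of_mem_normalizer hc.2 h4)).2⟩⟩)
    have hM : M = ⊥ := by
      by_contra h0
      obtain ⟨q, hq, hd⟩ := Nat.exists_prime_and_dvd (fun h1 => h0 (eq_bot_of_card_eq M h1))
      have := Fact.mk hq
      obtain ⟨Q, hQ⟩ := exists_invariant_sylow _ M (inf_le_left.trans hM2) hM3.symm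
        (Or.inl inferInstance) q
      obtain ⟨z, h1, h2, h3⟩ := h.exists_central
      refine h.no_norm (fun h0 => (isSyl_map_subtype Q).eq_bot_iff.1 h0 hd) hq
        (isSyl_map_subtype Q).pgrp (fun hd' => ?_) h1 h2 h3 (hQ ⟨hZ ⟨h1, h2⟩, h1⟩)
      obtain ⟨w, h4, -, h5⟩ := hcen q hq hd'
      exact hq.one_lt.ne' (Nat.eq_one_of_dvd_coprimes hM3 hd (h5 ▸ orderOf_dvd_natCard _ h4))
    rw [hM, bot_sup_eq] at hM4
    rw [← hM4]
    exact inf_le_right.trans le_normalizer
  · have h1 : ¬ (Nat.card (centralizer ({u} : Set G) ⊓ 𝐍[A] : Subgroup G)).Coprime (Nat.card B) :=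
      fun hc => hD (h.le_of_le_normalizer inf_le_right hc)
    obtain ⟨q, hq, hd, hd'⟩ := Nat.Prime.not_coprime_iff_dvd.1 h1
    have := Fact.mk hq
    obtain ⟨y, hy⟩ := exists_prime_orderOf_dvd_card' q hd
    rw [← Subgroup.orderOf_coe] at hy
    obtain ⟨g, hg⟩ := h.exists_le_cj hq (h.symm.not_dvd hq hd') (isPGroup_zpowers_of_orderOf hy)
    have h' := h.cj_right g
    have hyB := hg (mem_zpowers _)
    have h2 := h'.symm.fac_le_normalizer (h'.symm.fac_centralizer (le_normalizer hyB) y.2.2)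
      (h.centralizer_ne_top (ne_one_of_orderOf hq hy)) (center_le_centralizer_singleton hyB)
    have h3 : u ∈ centralizer ({(y : G)} : Set G) :=
      mem_centralizer_singleton_iff.2 (mem_centralizer_singleton_iff.1 y.2.1).symm
    exact h'.fac_le_normalizer (h'.fac_centralizer (le_normalizer huA) (h2 h3))
      (h.centralizer_ne_top hu) hZ

theorem card_le (h : KW A B) : Nat.card A ≤ Nat.card B := by
  obtain ⟨g, hg⟩ : ∃ g, g ∉ 𝐍[A] := by
    by_contra hc
    push Not at hc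
    exact h.normalizer_ne_top h.ne_bot h.ne_top (eq_top_iff.2 fun g _ => hc g)
  have h1 : A ⊓ cj(g, A) = ⊥ := by
    rw [eq_bot_iff]
    intro u hu
    by_contra hu1
    exact hg (h.mem_normalizer_of_center_le ((center_le_centralizer_singleton hu.1).trans
      ((h.cj_left g).centralizer_le hu.2 hu1)))
  have h2 := Grp.card_mul_card_le_of_le (H := A) (K := cj(g, A)) (L := ⊤) le_top le_top
  rw [h1, card_bot, one_mul, card_cj] at h2
  have h3 := Nat.le_of_dvd (Nat.mul_pos Nat.card_pos Nat.card_pos) h.prod.card_dvd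
  exact Nat.le_of_mul_le_mul_left (h2.trans h3) Nat.card_pos

theorem false (h : KW A B) : False := by
  have h1 := h.cop
  rw [← le_antisymm h.card_le h.symm.card_le, Nat.coprime_self] at h1
  exact h.ne_bot (eq_bot_of_card_eq A h1)

end KW

end Cfsg.Agent.Solv.NA
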