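import Mathlib
import Cfsg.Agent.Solv.KegelWielandt2
import Cfsg.Agent.Char.Burnside

/-! The Kegel-Wielandt theorem: a product of two nilpotent subgroups is solvable. -/

set_option autoImplicit false

namespace Cfsg.Agent.Solv.NA

open Subgroup Cfsg
open Cfsg.Agent.PLocal.Amb
open scoped Pointwise

universe u

theorem isProd_inf_of_normal_of_coprime {G : Type*} [Group G] [Finite G] {A B : Subgroup G}
    (h : IsProd ⊤ A B) (hc : (Nat.card A).Coprime (Nat.card B)) (N : Subgroup G) [N.Normal] :
    IsProd N (N ⊓ A) (N ⊓ B) := by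
  have key : ∀ {A B : Subgroup G}, IsProd ⊤ A B → A.relIndex N ∣ Nat.card B := by
    intro A B h
    rw [Transfer.relIndex_eq_relIndex_sup_of_normal]
    refine (relIndex_dvd_index_of_le le_sup_left).trans ?_
    have := h.relIndex_dvd
    rwa [relIndex_top_right] at this
  refine isProd_of_card_le inf_le_left inf_le_left ?_
  have h0 : N ⊓ A ⊓ (N ⊓ B) = ⊥ :=
    eq_bot_iff.2 ((inf_le_inf inf_le_right inf_le_right).trans (inf_eq_bot_of_coprime hc).le)
  rw [h0, card_bot, one_mul]
  have h1 := Grp.card_inf_mul_relIndex N A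
  have h2 := Grp.card_inf_mul_relIndex N B
  have h3 : (A.relIndex N).Coprime (B.relIndex N) :=
    (hc.symm.coprime_dvd_left (key h)).coprime_dvd_right (key h.symm)
  have h4 : A.relIndex N ∣ Nat.card (N ⊓ B : Subgroup G) :=
    h3.dvd_of_dvd_mul_right (h2 ▸ Dvd.intro_left _ h1)
  rw [← h1]
  exact Nat.mul_le_mul_left _ (Nat.le_of_dvd Nat.card_pos h4)

theorem isProd_map_top {G G' : Type*} [Group G] [Group G'] {A B : Subgroup G} (h : IsProd ⊤ A B)
    (f : G →* G') (hf : Function.Surjective f) : IsProd ⊤ (A.map f) (B.map f) := by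
  have := h.map f
  rwa [map_top_of_surjective f hf] at this

/-- Wielandt: a product of two nilpotent subgroups of coprime orders is solvable. -/
theorem isSolvable_of_isProd_coprime (G : Type u) [Group G] [Finite G] :
    ∀ A B : Subgroup G, IsProd ⊤ A B → Group.IsNilpotent A → Group.IsNilpotent B →
      (Nat.card A).Coprime (Nat.card B) → Group.IsSolvable G := by
  refine Grp.card_induction (P := fun G _ _ => ∀ A B : Subgroup G, IsProd ⊤ A B →
    Group.IsNilpotent A → Group.IsNilpotent B → (Nat.card A).Coprime (Nat.card B) →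
    Group.IsSolvable G) ?_ G
  intro G _ _ ih A B h hA hB hc
  have ihs : ∀ K A' B' : Subgroup G, K ≠ ⊤ → IsProd K A' B' → Group.IsNilpotent A' →
      Group.IsNilpotent B' → (Nat.card A').Coprime (Nat.card B') → Group.IsSolvable K := by
    intro K A' B' hK h' hA' hB' hc'
    exact ih K (Grp.card_lt_of_ne_top hK) _ _ (isProd_top h'.subgroupOf)
      (Grp.isNilpotent_comap_of_injective A' K.subtype K.subtype_injective)
      (Grp.isNilpotent_comap_of_injective B' K.subtype K.subtype_injective)
      (by rwa [Grp.card_subgroupOf_of_le h'.1, Grp.card_subgroupOf_of_le h'.2.1])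
  by_contra hns
  have hnt : Nontrivial G := by
    by_contra h0
    rw [not_nontrivial_iff_subsingleton] at h0
    exact hns inferInstance
  have hsimple : IsSimpleGroup G := ⟨fun N hN => by
    by_contra hc'
    push Not at hc'
    refine hns ((Group.isSolvable_iff_subgroup_quotient N).2 ⟨?_, ?_⟩)
    · exact ihs N _ _ hc'.2 (isProd_inf_of_normal_of_coprime h hc N)
        (Grp.isNilpotent_of_le inf_le_right) (Grp.isNilpotent_of_le inf_le_right)
        ((hc.coprime_dvd_left (card_dvd_of_le inf_le_right)).coprime_dvd_right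
          (card_dvd_of_le inf_le_right))
    · exact ih _ (Grp.card_quotient_lt N hc'.1) _ _
        (isProd_map_top h _ (QuotientGroup.mk'_surjective N)) (Grp.isNilpotent_map _ _)
        (Grp.isNilpotent_map _ _)
        ((hc.coprime_dvd_left (card_map_dvd _ _)).coprime_dvd_right (card_map_dvd _ _))⟩
  have key : ∀ A B : Subgroup G, IsProd ⊤ A B → Group.IsNilpotent A → Group.IsNilpotent B →
      ∀ p : ℕ, p.Prime → ¬ IsPGroup p A := by
    intro A B h hA hB p hp hP
    have := Fact.mk hp
    by_cases hB0 : B = ⊥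
    · have h1 := h.eq_sup
      rw [hB0, sup_bot_eq] at h1
      subst h1
      have : Group.IsSolvable (⊤ : Subgroup G) := inferInstance
      exact hns (Group.isSolvable_of_surjective (f := (⊤ : Subgroup G).subtype)
        fun x => ⟨⟨x, mem_top x⟩, rfl⟩)
    · obtain ⟨q, hq, hd⟩ := Nat.exists_prime_and_dvd (fun h1 => hB0 (eq_bot_of_card_eq B h1))
      have := Fact.mk hq
      obtain ⟨z, h1, h2, h3⟩ := exists_central_of_dvd hB hd
      obtain ⟨k, hk⟩ := hP.exists_card_eq
      have h4 : (centralizer ({z} : Set G)).index ∣ p ^ k := by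
        refine (index_dvd_of_le (le_centralizer_singleton_of_mem h2)).trans ?_
        have := h.symm.relIndex_dvd
        rwa [relIndex_top_right, hk] at this
      obtain ⟨j, -, hj⟩ := (Nat.dvd_prime_pow hp).1 h4
      have h5 := Char.prime_card_of_class_prime_pow hp z (ne_one_of_orderOf hq h3) hj
      have := Fact.mk h5
      have := isCyclic_of_prime_card (p := Nat.card G) (α := G) rfl
      exact hns (Group.isSolvable_of_comm fun a b => mul_comm' a b)
  exact KW.false ⟨hsimple, h, hA, hB, hc, key A B h hA hB, key B A h.symm hB hA, ihs⟩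

theorem isSyl_iff_isSylowIn {G : Type*} [Group G] {p : ℕ} {T H : Subgroup G} :
    IsSyl p T H ↔ PLocal.IsSylowIn p T H :=
  ⟨fun h => by obtain ⟨S, rfl⟩ := h.exists_sylow_map; exact PLocal.isSylowIn_map S,
    fun h => by obtain ⟨S, rfl⟩ := h.exists_sylow; exact isSyl_map_subtype S⟩

/-- Kegel-Wielandt: a product of two nilpotent subgroups is solvable. -/
theorem isSolvable_of_isProd (G : Type u) [Group G] [Finite G] :
    ∀ A B : Subgroup G, IsProd ⊤ A B → Group.IsNilpotent A → Group.IsNilpotent B →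
      Group.IsSolvable G := by
  refine Grp.card_induction (P := fun G _ _ => ∀ A B : Subgroup G, IsProd ⊤ A B →
    Group.IsNilpotent A → Group.IsNilpotent B → Group.IsSolvable G) ?_ G
  intro G _ _ ih A B h hA hB
  by_contra hns
  have hq : ∀ (N : Subgroup G) [N.Normal], N ≠ ⊥ → Group.IsSolvable (G ⧸ N) := fun N _ hN =>
    ih _ (Grp.card_quotient_lt N hN) _ _ (isProd_map_top h _ (QuotientGroup.mk'_surjective N))
      (Grp.isNilpotent_map _ _) (Grp.isNilpotent_map _ _)
  have hs : ∀ (N : Subgroup G) [N.Normal], Group.IsSolvable N → N = ⊥ := fun N _ hN => by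
    by_contra h0
    exact hns ((Group.isSolvable_iff_subgroup_quotient N).2 ⟨hN, hq N h0⟩)
  refine hns (isSolvable_of_isProd_coprime G A B h hA hB (Nat.coprime_of_dvd fun p hp h1 h2 => ?_))
  have := Fact.mk hp
  obtain ⟨P, Q, R, hP, hQ, hR⟩ := h.exists_sylow p
  rw [← isSyl_iff_isSylowIn] at hP hQ
  have hP' := eq_pCoreOf_of_isSyl hA hP
  have hQ' := eq_pCoreOf_of_isSyl hB hQ
  have h3 := kegel_commutator_le_pCore hP.pgrp hQ.pgrp
    (h.isProd_conj (hP' ▸ le_normalizer_pCoreOf p A) (hQ' ▸ le_normalizer_pCoreOf p B)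
      (hR.eq_sup ▸ hR))
  have h4 : pCore p G = ⊥ := by
    have := (Grp.pCore_isPGroup p G).isNilpotent
    exact hs _ inferInstance
  rw [h4, le_bot_iff, commutator_eq_bot_iff_le_centralizer] at h3
  set M := normalClosure (Q : Set G)
  have h5 : M ⊓ 𝐂[M] = ⊥ := hs _ (Group.isSolvable_of_comm fun a b =>
    Subtype.ext (b.2.2 a a.2.1))
  have h6 : 𝐂[M] ≠ ⊥ := fun h0 => hP.eq_bot_iff.1 (eq_bot_iff.2 (h0 ▸ h3)) h1
  have := hq _ h6
  have h7 : M = ⊥ := hs _ (Group.isSolvable_of_isSolvable_injective
    (f := (QuotientGroup.mk' 𝐂[M]).comp M.subtype) ((injective_iff_map_eq_one _).2 fun x hx => by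
      have h8 : (x : G) ∈ M ⊓ 𝐂[M] := ⟨x.2, (QuotientGroup.eq_one_iff _).1 hx⟩
      rw [h5, mem_bot] at h8
      exact Subtype.ext h8))
  exact hQ.eq_bot_iff.1 (eq_bot_iff.2 (h7 ▸ le_normalClosure)) h2

/-- Kegel-Wielandt for a factorized subgroup. -/
theorem isSolvable_of_isProd' {G : Type*} [Group G] [Finite G] {K A B : Subgroup G}
    (h : IsProd K A B) (hA : Group.IsNilpotent A) (hB : Group.IsNilpotent B) :
    Group.IsSolvable K :=
  isSolvable_of_isProd K _ _ (isProd_top h.subgroupOf)
    (Grp.isNilpotent_comap_of_injective A K.subtype K.subtype_injective)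
    (Grp.isNilpotent_comap_of_injective B K.subtype K.subtype_injective)

end Cfsg.Agent.Solv.NA
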